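import Cfsg.Agent.H487.AN.Rows
import Cfsg.Agent.H313.AltDeg.Kill
import Cfsg.Agent.H843.IMC.Co1B
import Cfsg.Agent.H843.IMC.Co2A
import Cfsg.Agent.H492.IMHN

/-!
# S4766, C1: the rows `Co1`, `Co2`, `HN` (helper487, with the exclusion of helper313)
-/

set_option autoImplicit false
set_option linter.unusedSectionVars false
set_option maxRecDepth 100000

namespace Cfsg.Agent.H487.AN

open Cfsg Cfsg.Agent.H704 Cfsg.Agent.H704.DSA Cfsg.Agent.H704.DS Cfsg.Agent.H313.AD

universe u

variable {K : Type u} [Group K] [Finite K] {n : ℕ}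

theorem killed_co1 : Killed [276, 299] := killed_of (B := 40) (a := 276) (b := 299) (by decide +kernel) (by decide +kernel)

theorem killed_co2 : Killed [23, 275] := killed_of (B := 40) (a := 275) (b := 23) (by decide +kernel) (by decide +kernel)

theorem killed_hn : Killed [8910, 365750] :=
  killed_of (B := 200) (a := 8910) (b := 365750) (by decide +kernel) (by decide +kernel)

theorem has_of {T : Type} [Group T] [Finite T] {d : ℕ} (h : H672.SporIM.HasDeg T d) (e : K ≃* T) : Has K d :=
  Has.congr e (H292.DS.apply_one h)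

theorem rowA_co1 (h : Spor.IsoCo1 K) (hd : SubDegA n K) : False := by
  obtain ⟨e⟩ := h
  have : Finite Spor.Co1 := Finite.of_equiv _ e.toEquiv
  have k1 : Has K 276 := has_of H843.IMC.Co1B.hasDeg_276 e
  have k2 : Has K 299 := has_of H843.IMC.Co1B.hasDeg_299 e
  have h23 : 23 ≤ n := prime_leA (hd.has k1) (by norm_num) (by norm_num)
  refine killed_co1 n (by omega) ?_
  intro d hd'
  simp only [List.mem_cons, List.not_mem_nil, or_false] at hd'
  rcases hd' with rfl | rfl
  · exact Or.inl (hd.has k1)
  · exact Or.inl (hd.has k2)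

theorem rowA_co2 (h : Spor.IsoCo2 K) (hd : SubDegA n K) : False := by
  obtain ⟨e⟩ := h
  have : Finite Spor.Co2 := Finite.of_equiv _ e.toEquiv
  have k1 : Has K 23 := has_of H843.IMC.Co2A.hasDeg_23 e
  have k2 : Has K 275 := has_of H843.IMC.Co2A.hasDeg_2024_275.2 e
  have h23 : 23 ≤ n := prime_leA (hd.has k1) (by norm_num) (by norm_num)
  refine killed_co2 n (by omega) ?_
  intro d hd'
  simp only [List.mem_cons, List.not_mem_nil, or_false] at hd'
  rcases hd' with rfl | rfl
  · exact Or.inl (hd.has k1)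
  · exact Or.inl (hd.has k2)

theorem rowA_hn (h : Spor.IsoHN K) (hd : DegOKA n K) : False := by
  obtain ⟨e⟩ := h
  have k1 : Has K 8910 := by
    obtain ⟨χ, hχ⟩ := H492.IMHN.exists_8910
    exact Has.congr e ⟨χ, χ.2, hχ⟩
  have k2 : Has K 365750 := by
    obtain ⟨χ, hχ⟩ := H492.IMHN.exists_365750
    exact Has.congr e ⟨χ, χ.2, hχ⟩
  have h11 : 11 ≤ n := by
    rcases hd.has k1 with h | h
    · exact prime_leA h (by norm_num) (by norm_num)
    · exact prime_leA h (by norm_num) (by norm_num)
  refine killed_hn n h11 ?_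
  intro d hd'
  simp only [List.mem_cons, List.not_mem_nil, or_false] at hd'
  rcases hd' with rfl | rfl
  · exact hd.has k1
  · exact hd.has k2

end Cfsg.Agent.H487.AN
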