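import Cfsg.Agent.H487.AN.Base
import Cfsg.Agent.H759.DS.Alt

/-!
# S4766, C1: almost simple groups with alternating socle (helper487, after helper759)

`alt_case` : if all irreducible degrees of an almost simple group `A` with socle `A_m` are degrees of `A_n`, then
`m = n`.
-/

set_option autoImplicit false
set_option linter.unusedSectionVars false

namespace Cfsg.Agent.H487.AN

open Cfsg Cfsg.Agent.H704 Cfsg.Agent.H704.DSA Cfsg.Agent.H835.AN

universe u

/-- the low degrees -/
def LowA : Prop := ∀ {n d : ℕ}, 10 ≤ n → IsDegA n d → d = 1 ∨ d = n - 1 ∨ n * (n - 3) ≤ 2 * d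

theorem lowA : LowA := fun h1 h2 => low_degreeA h1 h2

theorem SubDegA_deg {n : ℕ} {G : Type u} [Group G] [Finite G] (h : SubDegA n G) {ψ : G → ℂ}
    (hψ : IsIrrCharacter G ψ) : IsDegA n (charDegree ψ) := by
  obtain ⟨d, hd, h1⟩ := h ψ hψ
  rwa [H672.charDegree_of_eq h1]

theorem SubDegA_of_eq {n : ℕ} {G : Type u} [Group G] [Finite G] (h : SubDegA n G) {ψ : G → ℂ}
    (hψ : IsIrrCharacter G ψ) {d : ℕ} (hd : ψ 1 = (d : ℂ)) : IsDegA n d := by
  have := SubDegA_deg h hψ
  rwa [H672.charDegree_of_eq hd] at this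

section

variable {n : ℕ} {A : Type u} [Group A] [Finite A] (S : Subgroup A) [S.Normal] {m : ℕ}

/-- the primes -/
theorem exists_deg (hm : 5 ≤ m) (e : S ≃* alternatingGroup (Fin m)) (hd : SubDegA n A) {r : ℕ} (hr : r.Prime)
    (h : r ≤ m) : ∃ χ : A → ℂ, IsIrrCharacter A χ ∧ IsDegA n (charDegree χ) ∧ r ∣ charDegree χ := by
  have : Fact r.Prime := ⟨hr⟩
  obtain ⟨χ, hχ⟩ := (H33.IM.of_equiv e (H600.AltDeg.im_alt hm (H759.DS.prime_dvd_alt hm hr h))).of_normal S
  exact ⟨χ, χ.2, SubDegA_deg hd χ.2, hχ⟩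

theorem prime_le (hm : 5 ≤ m) (e : S ≃* alternatingGroup (Fin m)) (hd : SubDegA n A) {r : ℕ} (hr : r.Prime)
    (h : r ≤ m) : r ≤ n := by
  obtain ⟨χ, -, h1, h2⟩ := exists_deg S hm e hd hr h
  exact (Nat.Prime.dvd_factorial hr).1 (h2.trans (dvd_factorial h1))

theorem lt_two_mul (hm : 5 ≤ m) (e : S ≃* alternatingGroup (Fin m)) (hd : SubDegA n A) : m < 2 * n := by
  obtain ⟨r, hr, h1, h2⟩ := Nat.exists_prime_lt_and_le_two_mul (m / 2) (by omega)
  have := prime_le S hm e hd hr (by omega)
  omega

/-- large degree -/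
theorem case_seven (hlow : LowA) (h5 : 5 ≤ n) (hm : 7 ≤ m) (e : S ≃* alternatingGroup (Fin m)) (hd : SubDegA n A) :
    m = n := by
  obtain ⟨χ, hχ, -, h1⟩ := H464.AltExt.alt_ext S hm e
  have h2 := SubDegA_of_eq hd hχ h1
  have h3 := lt_two_mul S (by omega) e hd
  rcases Nat.lt_or_ge n 10 with h9 | h9
  · have p7 := prime_le S (by omega) e hd (r := 7) (by norm_num)
    have p11 := prime_le S (by omega) e hd (r := 11) (by norm_num)
    have h4 := mem_degA h5 (by omega) h2
    interval_cases n
    · omega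
    · omega
    · simp only [degA, List.mem_cons, List.not_mem_nil, or_false] at h4
      omega
    · simp only [degA, List.mem_cons, List.not_mem_nil, or_false] at h4
      omega
    · simp only [degA, List.mem_cons, List.not_mem_nil, or_false] at h4
      omega
  · rcases hlow h9 h2 with h | h | h
    · omega
    · omega
    · exfalso
      have : 6 * n ≤ n * (n - 3) := by
        rw [mul_comm]
        exact Nat.mul_le_mul_left n (by omega)
      omega

theorem deg_lie [IsSimpleGroup S] (hd : SubDegA n A) {p : ℕ} (hp : p.Prime) (h : IsLieTypeChar p S) {a : ℕ}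
    (ha : (Nat.card S).factorization p = a) : IsDegA n (p ^ a) := by
  have := Fact.mk hp
  obtain ⟨χ, hχ, -, h1⟩ := H691.StExt.exists_ext S (H996.AllSplit.hasSplit_of_lie hp h)
  obtain ⟨Q⟩ := (inferInstance : Nonempty (Sylow p S))
  have h2 := SubDegA_of_eq hd hχ (h1 Q)
  rwa [Q.card_eq_multiplicity, ha] at h2

theorem case_five (hlow : LowA) [IsSimpleGroup S] (h5 : 5 ≤ n) (e : S ≃* alternatingGroup (Fin 5))
    (hd : SubDegA n A) : 5 = n := by
  have h4 : IsDegA n (2 ^ 2) := deg_lie S hd Nat.prime_two (H759.DS.lie_four S e) (by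
    rw [Nat.card_congr e.toEquiv, H759.DS.card_five, H759.DS.fact_sixty])
  rcases Nat.lt_or_ge n 10 with h9 | h9
  · have h6 := mem_degA h5 (by omega) h4
    interval_cases n <;> simp [degA] at h6 ⊢
  · rcases hlow h9 h4 with h | h | h
    · omega
    · omega
    · exfalso
      have : 6 * n ≤ n * (n - 3) := by
        rw [mul_comm]
        exact Nat.mul_le_mul_left n (by omega)
      omega

theorem case_six (hlow : LowA) [IsSimpleGroup S] (h5 : 5 ≤ n) (e : S ≃* alternatingGroup (Fin 6)) (hd : SubDegA n A)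
    (hind : S.index ∣ Nat.card (Cfsg.Out S)) : 6 = n := by
  have h4 : IsDegA n (3 ^ 2) := deg_lie S hd Nat.prime_three (H759.DS.lie_nine S e) (by
    rw [Nat.card_congr e.toEquiv, H759.DS.card_six, H759.DS.fact_three])
  rcases Nat.lt_or_ge n 10 with h9 | h9
  · have h6 := mem_degA h5 (by omega) h4
    interval_cases n <;> simp [degA] at h6 ⊢
  · have h10 : n = 10 := by
      rcases hlow h9 h4 with h | h | h
      · omega
      · omega
      · exfalso
        have : 6 * n ≤ n * (n - 3) := by
          rw [mul_comm]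
          exact Nat.mul_le_mul_left n (by omega)
        omega
    subst h10
    exfalso
    obtain ⟨χ, hχ, h6, h7⟩ := exists_deg S (by norm_num) e hd (r := 5) (by norm_num) (by norm_num)
    have hA : Nat.card A ∣ 1440 := by
      rw [← S.card_mul_index, Nat.card_congr e.toEquiv, H759.DS.card_six]
      rw [H759.DS.card_out_six' e] at hind
      exact (Nat.mul_dvd_mul_left 360 hind)
    have h8 := H759.DS.sq_le hχ
    have h9 : charDegree χ ∣ 1440 := (Blocks.Knorr.charDegree_dvd hχ).trans hA
    have h10 := Nat.le_of_dvd (by norm_num) hA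
    rcases hlow (by norm_num) h6 with h | h | h
    · omega
    · omega
    · have h11 : charDegree χ ≤ 37 := by nlinarith
      have h12 : charDegree χ = 35 := by omega
      rw [h12] at h9
      omega

/-- **The alternating groups.** -/
theorem alt_case (hlow : LowA) (h5 : 5 ≤ n) [IsSimpleGroup S] (hm : 5 ≤ m) (e : S ≃* alternatingGroup (Fin m))
    (hind : S.index ∣ Nat.card (Cfsg.Out S)) (hd : SubDegA n A) : m = n := by
  rcases Nat.lt_or_ge m 7 with h7 | h7
  · have : m = 5 ∨ m = 6 := by omega
    rcases this with rfl | rfl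
    · exact case_five S hlow h5 e hd
    · exact case_six S hlow h5 e hd hind
  · exact case_seven S hlow h5 h7 e hd

end

end Cfsg.Agent.H487.AN
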