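import Cfsg.Agent.H704.DSA.Base
import Cfsg.Agent.H704.DS.Base
import Cfsg.Agent.H835.AN.Deg
import Cfsg.Agent.H816.OutEmb
import Cfsg.Agent.H681.DegBasic

/-!
# S4766, C1: the degrees of an almost simple group which are degrees of `A_n`: interface (helper487)

* `mem_degA` : the degrees of `A_n` (in the form `IsDegA`) for `5 ≤ n ≤ 19`;
* `subDegA_of` : `cd(A) ⊆ cd(A_n)` gives `SubDegA n A`.
-/

set_option autoImplicit false

namespace Cfsg.Agent.H487.AN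

open Cfsg Cfsg.Agent.H704 Cfsg.Agent.H704.DSA Cfsg.Agent.H691.AN Cfsg.Agent.H835.AN

universe u

/-- the degrees of `T` are degrees of `A_n` -/
def SubDegA (n : ℕ) (T : Type*) [Group T] : Prop :=
  ∀ ψ : T → ℂ, IsIrrCharacter T ψ → ∃ d : ℕ, IsDegA n d ∧ ψ 1 = (d : ℂ)

/-- the degrees of `T` are degrees or half degrees of `A_n` -/
def DegOKA (n : ℕ) (T : Type*) [Group T] : Prop :=
  ∀ ψ : T → ℂ, IsIrrCharacter T ψ → ∃ d : ℕ, IsDegA n d ∧ ((d : ℂ) = ψ 1 ∨ (d : ℂ) = 2 * ψ 1)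

theorem SubDegA.nat {n : ℕ} {T : Type*} [Group T] (h : SubDegA n T) {ψ : T → ℂ} (hψ : IsIrrCharacter T ψ) {e : ℕ}
    (he : ψ 1 = e) : IsDegA n e := by
  obtain ⟨d, h1, h2⟩ := h ψ hψ
  rw [he] at h2
  have : e = d := by exact_mod_cast h2
  rwa [this]

theorem DegOKA.nat {n : ℕ} {T : Type*} [Group T] (h : DegOKA n T) {ψ : T → ℂ} (hψ : IsIrrCharacter T ψ) {e : ℕ}
    (he : ψ 1 = e) : IsDegA n e ∨ IsDegA n (2 * e) := by
  obtain ⟨d, h1, h2⟩ := h ψ hψ
  rw [he] at h2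
  rcases h2 with h2 | h2
  · left
    have : d = e := by exact_mod_cast h2
    rwa [← this]
  · right
    have : d = 2 * e := by exact_mod_cast h2
    rwa [← this]

theorem SubDegA.degOKA {n : ℕ} {T : Type*} [Group T] (h : SubDegA n T) : DegOKA n T := by
  intro ψ hψ
  obtain ⟨d, h1, h2⟩ := h ψ hψ
  exact ⟨d, h1, Or.inl h2.symm⟩

theorem mem_of_achk' {n F : ℕ} (hF : n.factorial = F) (h : achk n F = true) {d : ℕ} (hd : IsDegA n d) : d ∈ degA n := by
  subst hF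
  unfold achk at h
  rw [Bool.and_eq_true, Bool.and_eq_true, Bool.and_eq_true, Bool.and_eq_true] at h
  obtain ⟨⟨⟨⟨hgo, -⟩, -⟩, -⟩, -⟩ := h
  obtain ⟨l, hl, hcase⟩ := hd
  have hc := check_of_isPart hgo hl
  have hpos : 0 < hookProd l := by
    apply Nat.pos_of_ne_zero
    intro h0
    rcases hcase with ⟨-, he⟩ | ⟨-, he⟩ <;> · rw [h0, mul_zero] at he; exact absurd he.symm (Nat.factorial_pos n).ne'
  unfold pchk at hc
  rcases hcase with ⟨ht, he⟩ | ⟨ht, he⟩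
  · rw [if_neg ht, memb_iff] at hc
    have h3 : Nat.div n.factorial (hookProd l) = d := by
      rw [← he]
      exact Nat.mul_div_cancel d hpos
    rwa [h3] at hc
  · rw [if_pos ht, memb_iff] at hc
    have h3 : Nat.div n.factorial (hookProd l) = 2 * d := by
      rw [← he]
      exact Nat.mul_div_cancel (2 * d) hpos
    have h4 : Nat.div (2 * d) 2 = d := Nat.mul_div_cancel_left d (by norm_num)
    rwa [h3, h4] at hc

/-- the degrees of `A_n`, `5 ≤ n ≤ 19` -/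
theorem mem_degA {n d : ℕ} (h5 : 5 ≤ n) (h19 : n ≤ 19) (h : IsDegA n d) : d ∈ degA n := by
  obtain ⟨F, hF, h1⟩ := achk_all h5 h19
  exact mem_of_achk' hF h1 h

theorem dvd_factorial {n d : ℕ} (h : IsDegA n d) : d ∣ n.factorial := by
  obtain ⟨l, -, ⟨-, h2⟩ | ⟨-, h2⟩⟩ := h
  · exact ⟨_, h2.symm⟩
  · exact ⟨2 * hookProd l, by rw [← h2]; ring⟩

/-- `cd(A) ⊆ cd(A_n)` -/
theorem subDegA_of (h2 : A2St) {n : ℕ} (hn : 2 ≤ n) {A : Type u} [Group A] [Finite A] (h : charDegrees A ⊆ D n) :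
    SubDegA n A := by
  intro ψ hψ
  obtain ⟨e, -, he⟩ := Characters.Core.isIrr_apply_one hψ
  have h1 : e ∈ charDegrees A := H681.DegBasic.mem_charDegrees.2 ⟨ψ, hψ, he⟩
  exact ⟨e, h2 hn (h h1), he⟩

theorem subDegA_congr {n : ℕ} {A B : Type*} [Group A] [Group B] (e : A ≃* B) (h : SubDegA n A) : SubDegA n B := by
  intro ψ hψ
  have h1 : IsIrrCharacter A (ψ ∘ (e : A →* B)) := Characters.Core.isIrr_comp (e : A →* B) e.surjective hψ
  obtain ⟨d, h2, h3⟩ := h _ h1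
  refine ⟨d, h2, ?_⟩
  rw [Function.comp_apply, map_one] at h3
  exact h3

end Cfsg.Agent.H487.AN
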