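import Cfsg.Agent.H487.AN.Final
import Cfsg.Agent.S4906

/-!
# S4766, C1 (helper487)
-/

set_option autoImplicit false

universe u

namespace Cfsg.Agent.H487.AN

open Cfsg Cfsg.Agent.H691.AN

/-- **C1** of S4766 -/
theorem c1_almostSimple {n : ℕ} (hn : 5 ≤ n) {A : Type u} [Group A] [Finite A] {S : Subgroup A} (hA : AlmostSimple A S)
    (h : charDegrees A ⊆ D n) : Nonempty (S ≃* An n) :=
  c1_of (fun _ _ _ _ => Cfsg.Agent.S0000.result) (fun _ _ _ _ hX => Cfsg.Agent.S4906.im_of hX) hn hA h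

end Cfsg.Agent.H487.AN
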