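import Cfsg.Agent.H487.AN.C2Ind
import Cfsg.Agent.H559.AD.Frame
import Cfsg.Agent.H691.ExtChar
import Cfsg.Agent.H691.AN.Defs

/-!
# S4766, C2: characters of a group with a nonabelian minimal normal subgroup that is not simple (helper487)

`c2_gen_of` : from the tensor induction (`TensIrr`, helper800).
-/

set_option autoImplicit false
set_option linter.unusedSectionVars false

namespace Cfsg.Agent.H487.AN

open Cfsg Cfsg.Agent.Characters Cfsg.Agent.Characters.Core Cfsg.Agent.H681.DegBasic Cfsg.Agent.H686.CharKit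
open Cfsg.Agent.H691 Cfsg.Agent.H691.KOne Cfsg.Agent.H691.ExtChar Cfsg.Agent.H691.AN
open Cfsg.Agent.OddOrderCharacters.PF9.CliffGen
open scoped commutatorElement

universe u

/-- **The almost simple quotient.** -/
theorem exists_ASA {Y : Type u} [Group Y] [Finite Y] {N R : Subgroup Y} [hN : N.Normal] [hR : R.Normal]
    (hs : IsSimpleGroup (N ⧸ R.subgroupOf N)) (hna : ¬ IsMulCommutative (N ⧸ R.subgroupOf N)) :
    AlmostSimple (Y ⧸ AExt.KK N R) (N.map (QuotientGroup.mk' (AExt.KK N R))) ∧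
      ∃ e : (N ⧸ R.subgroupOf N) ≃* (N.map (QuotientGroup.mk' (AExt.KK N R))),
        ∀ n : N, ((e (QuotientGroup.mk n) : N.map (QuotientGroup.mk' (AExt.KK N R))) : Y ⧸ AExt.KK N R) =
          QuotientGroup.mk' (AExt.KK N R) n := by
  set π := QuotientGroup.mk' (AExt.KK N R) with hπ
  have hsurj : Function.Surjective π := QuotientGroup.mk'_surjective _
  let f : N →* N.map π := π.subgroupMap N
  have hf : Function.Surjective f := π.subgroupMap_surjective N
  have hker : R.subgroupOf N = f.ker := by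
    ext n
    rw [Subgroup.mem_subgroupOf, MonoidHom.mem_ker]
    have h1 : f n = 1 ↔ π (n : Y) = 1 := by
      rw [Subtype.ext_iff]
      rfl
    rw [h1, hπ, QuotientGroup.mk'_apply, QuotientGroup.eq_one_iff]
    exact ⟨fun h => AExt.le_KK N R h, fun h => AExt.inf_KK hs hna n.2 h⟩
  let e : (N ⧸ R.subgroupOf N) ≃* (N.map π) :=
    (QuotientGroup.quotientMulEquivOfEq hker).trans (QuotientGroup.quotientKerEquivOfSurjective f hf)
  refine ⟨⟨hN.map π hsurj, ?_, ?_, ?_⟩, e, fun n => rfl⟩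
  · exact e.symm.isSimpleGroup
  · intro hc
    exact hna ⟨⟨fun a b => e.injective (by rw [map_mul, map_mul]; exact hc.is_comm.comm _ _)⟩⟩
  · rw [eq_bot_iff]
    intro x hx
    obtain ⟨y, rfl⟩ := hsurj x
    rw [Subgroup.mem_centralizer_iff] at hx
    rw [Subgroup.mem_bot, hπ, QuotientGroup.mk'_apply, QuotientGroup.eq_one_iff]
    intro n hn
    have h1 := hx (π n) (Subgroup.mem_map_of_mem π hn)
    have h2 : π (y * n * y⁻¹ * n⁻¹) = 1 := by
      rw [map_mul, map_mul, map_mul, map_inv, map_inv, ← h1]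
      group
    rw [hπ, QuotientGroup.mk'_apply, QuotientGroup.eq_one_iff] at h2
    exact AExt.inf_KK hs hna (N.mul_mem (hN.conj_mem n hn y) (N.inv_mem hn)) h2

/-- the almost simple group attached to `R` -/
theorem exists_setup {G : Type u} [Group G] [Finite G] (N : Subgroup G) [hN : N.Normal] (R : Subgroup N)
    [hR : R.Normal] (hs : IsSimpleGroup (N ⧸ R)) (hna : ¬ IsMulCommutative (N ⧸ R)) :
    ∃ (A : Type u) (_ : Group A) (_ : Finite A) (S : Subgroup A) (π : TR N R →* A) (g : N →* S),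
      AlmostSimple A S ∧ Function.Surjective π ∧ Function.Surjective g ∧
      (∀ n : N, ((g n : S) : A) = π (Subgroup.inclusion (le_TR N R) n)) ∧ ∀ n : N, g n = 1 ↔ n ∈ R := by
  classical
  set Y := TR N R with hY
  set N' : Subgroup Y := N.subgroupOf Y with hN'
  set R' : Subgroup Y := (R.map N.subtype).subgroupOf Y with hR'
  have i1 : N'.Normal := inferInstance
  have hmem : ∀ (n : N), (n : G) ∈ R.map N.subtype ↔ n ∈ R := by
    intro n
    constructor
    · rintro ⟨m, hm, h⟩
      have : m = n := Subtype.ext h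
      rwa [← this]
    · exact fun h => ⟨n, h, rfl⟩
  have i2 : R'.Normal := by
    refine ⟨fun r hr y => ?_⟩
    rw [hR', Subgroup.mem_subgroupOf] at hr ⊢
    obtain ⟨n, hn, hnr⟩ := hr
    have h1 := (y.2 n).2 hn
    refine ⟨_, h1, ?_⟩
    rw [Subgroup.coe_subtype, MulAut.conjNormal_apply]
    have hnr' : (n : G) = (r : G) := hnr
    rw [hnr']
    rfl
  let eN : N' ≃* N := Subgroup.subgroupOfEquivOfLe (le_TR N R)
  have heN : ∀ x : N', ((eN x : N) : G) = ((x : Y) : G) := fun x => rfl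
  have hmap : (R'.subgroupOf N').map eN.toMonoidHom = R := by
    ext n
    constructor
    · rintro ⟨x, hx, rfl⟩
      have h1 : ((x : Y) : G) ∈ R.map N.subtype := hx
      rw [← heN] at h1
      exact (hmem _).1 h1
    · intro hn
      refine ⟨eN.symm n, ?_, by simp⟩
      change (((eN.symm n : N') : Y) : G) ∈ R.map N.subtype
      rw [← heN, eN.apply_symm_apply]
      exact (hmem _).2 hn
  let eQ : (N' ⧸ R'.subgroupOf N') ≃* (N ⧸ R) := QuotientGroup.congr _ _ eN hmap
  have hs' : IsSimpleGroup (N' ⧸ R'.subgroupOf N') := eQ.isSimpleGroup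
  have hna' : ¬ IsMulCommutative (N' ⧸ R'.subgroupOf N') := fun hc =>
    hna ⟨⟨fun a b => eQ.symm.injective (by rw [map_mul, map_mul]; exact hc.is_comm.comm _ _)⟩⟩
  let K := AExt.KK N' R'
  let π : Y →* Y ⧸ K := QuotientGroup.mk' K
  let S : Subgroup (Y ⧸ K) := N'.map π
  obtain ⟨hAS, e, he⟩ : AlmostSimple (Y ⧸ K) S ∧ ∃ e : (N' ⧸ R'.subgroupOf N') ≃* S,
      ∀ n : N', ((e (QuotientGroup.mk n) : S) : Y ⧸ K) = π n := exists_ASA hs' hna'
  let g : N →* S := (e.toMonoidHom.comp (QuotientGroup.mk' (R'.subgroupOf N'))).comp eN.symm.toMonoidHom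
  have hg : Function.Surjective g :=
    (e.surjective.comp (QuotientGroup.mk'_surjective _)).comp eN.symm.surjective
  refine ⟨Y ⧸ K, inferInstance, inferInstance, S, π, g, hAS, QuotientGroup.mk'_surjective _, hg, ?_, ?_⟩
  · intro n
    exact he (eN.symm n)
  · intro n
    have h1 : g n = e (QuotientGroup.mk (eN.symm n)) := rfl
    rw [h1, EmbeddingLike.map_eq_one_iff, QuotientGroup.eq_one_iff, Subgroup.mem_subgroupOf]
    exact hmem n

/-- a constituent which is nontrivial at `y` -/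
theorem exists_constituent_ne {K : Type u} [Group K] [Fintype K] {χ : K → ℂ} (hχ : IsCharacter K χ) {y : K}
    (hy : χ y ≠ χ 1) : ∃ θ : K → ℂ, IsIrrCharacter K θ ∧ classInner χ θ ≠ 0 ∧ θ y ≠ θ 1 := by
  classical
  have := finite_irr (G := K)
  have := Fintype.ofFinite (IrrCharacter K)
  by_contra hcon
  push Not at hcon
  apply hy
  obtain ⟨m, hm⟩ := isCharacter_iff.1 hχ
  have h1 : ∀ z : K, χ z = ∑ θ : IrrCharacter K, (m θ : ℂ) * (θ : K → ℂ) z := by
    intro z
    rw [hm, Finset.sum_apply]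
    exact Finset.sum_congr rfl fun θ _ => by rw [Pi.smul_apply, nsmul_eq_mul]
  rw [h1, h1]
  refine Finset.sum_congr rfl fun θ _ => ?_
  by_cases h0 : m θ = 0
  · rw [h0]; simp
  · rw [hcon θ θ.2 (by rw [hm, classInner_sum_nsmul_irr]; exact_mod_cast h0)]

/-- a constant irreducible character has degree one -/
theorem eq_one_of_const {K : Type u} [Group K] [Finite K] {θ : K → ℂ} (hθ : IsIrrCharacter K θ) {d : ℕ} (hd : θ 1 = d)
    (h : ∀ s, θ s = θ 1) : d = 1 := by
  have := Fintype.ofFinite K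
  have h1 := classInner_irr_self hθ
  rw [classInner_def] at h1
  have h2 : ∀ x ∈ (Finset.univ : Finset K), θ x * (starRingEnd ℂ) (θ x) = (d : ℂ) * d := by
    intro x _
    rw [h x, hd, Complex.conj_natCast]
  rw [Finset.sum_congr rfl h2, Finset.sum_const, nsmul_eq_mul, Finset.card_univ, ← Nat.card_eq_fintype_card,
    ← mul_assoc, inv_mul_cancel₀ card_ne_zero_complex, one_mul] at h1
  have h3 : d * d = 1 := by exact_mod_cast h1
  exact Nat.eq_one_of_mul_eq_one_left h3

/-- a proper kernel containing `R` is `R` -/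
theorem eq_of_simple {N : Type u} [Group N] {R M : Subgroup N} [R.Normal] (hs : IsSimpleGroup (N ⧸ R))
    (hM : M.Normal) (hRM : R ≤ M) (hne : M ≠ ⊤) : M = R := by
  rcases (hM.map (QuotientGroup.mk' R) (QuotientGroup.mk'_surjective R)).eq_bot_or_eq_top with h | h
  · refine le_antisymm ?_ hRM
    intro x hx
    have h1 : QuotientGroup.mk' R x ∈ M.map (QuotientGroup.mk' R) := Subgroup.mem_map_of_mem _ hx
    rw [h, Subgroup.mem_bot, QuotientGroup.mk'_apply, QuotientGroup.eq_one_iff] at h1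
    exact h1
  · exfalso
    apply hne
    rw [eq_top_iff]
    intro x _
    have h1 : QuotientGroup.mk' R x ∈ M.map (QuotientGroup.mk' R) := by rw [h]; exact Subgroup.mem_top _
    obtain ⟨y, hy, hxy⟩ := h1
    rw [QuotientGroup.mk'_apply, QuotientGroup.mk'_apply, QuotientGroup.eq] at hxy
    have := M.mul_mem hy (hRM hxy)
    rwa [mul_inv_cancel_left] at this

section parts

variable {G : Type u} [Group G] [Finite G] (N : Subgroup G) [hN : N.Normal] (R : Subgroup N) [hR : R.Normal]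
  (hs : IsSimpleGroup (N ⧸ R)) {A : Type u} [Group A] [Finite A] {S : Subgroup A} {π : TR N R →* A}
  (hπ : Function.Surjective π) {g : N →* S} (hg : Function.Surjective g)
  (hgπ : ∀ n : N, ((g n : S) : A) = π (Subgroup.inclusion (le_TR N R) n)) (hgR : ∀ n : N, g n = 1 ↔ n ∈ R)

include hs hπ hg hgπ hgR

/-- **(i)** induction -/
theorem part_i {ψ : A → ℂ} {d : ℕ} (hψ : IsIrrCharacter A ψ) (hd : ψ 1 = d) (hne : ∃ s ∈ S, ψ s ≠ ψ 1) :
    (TR N R).index * d ∈ charDegrees G := by
  classical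
  have := Fintype.ofFinite N
  obtain ⟨s, hsS, hsne⟩ := hne
  obtain ⟨n₀, hn₀⟩ := hg ⟨s, hsS⟩
  have hn₀' : ((g n₀ : S) : A) = s := by rw [hn₀]
  have h1 : IsIrrCharacter (TR N R) (ψ ∘ π) := isIrr_comp π hπ hψ
  have hval : ∀ n : N, resTo (le_TR N R) (ψ ∘ π) n = ψ (g n : S) := by
    intro n
    rw [hgπ]
    rfl
  have h2 : IsCharacter N (resTo (le_TR N R) (ψ ∘ π)) := isCharacter_resTo _ (isIrr_isCharacter h1)
  have hval1 : resTo (le_TR N R) (ψ ∘ π) 1 = ψ 1 := by
    rw [hval, map_one]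
    rfl
  obtain ⟨θ, hθ, h3, h4⟩ := exists_constituent_ne h2 (y := n₀) (by rw [hval, hval1, hn₀']; exact hsne)
  have hR' : R ≤ chKer (⟨θ, hθ⟩ : IrrCharacter N) := by
    intro n hn
    rw [mem_chKer]
    refine constituent_ker h2 hθ h3 ?_
    rw [hval, hval1, (hgR n).2 hn]
    rfl
  have hker : chKer (⟨θ, hθ⟩ : IrrCharacter N) = R := by
    refine eq_of_simple hs (chKer_normal _) hR' ?_
    intro h
    have h5 : n₀ ∈ chKer (⟨θ, hθ⟩ : IrrCharacter N) := by rw [h]; exact Subgroup.mem_top _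
    exact h4 (mem_chKer.1 h5)
  refine mem_degrees_of_stab (le_TR N R) hθ ?_ h1 (by rw [Function.comp_apply, map_one, hd]) h3
  intro x hx n
  have h6 : θ ((MulAut.conjNormal x : MulAut N) n) = θ n := by
    have := congrFun hx n
    rw [OddOrderCharacters.NormalInduced.conjFn_apply] at this
    rw [← this]
    congr 1
  rw [← hker, mem_chKer, mem_chKer]
  change θ ((MulAut.conjNormal x : MulAut N) n) = θ 1 ↔ θ n = θ 1
  rw [h6]

/-- the kernel of a nontrivial character of `S` -/
theorem ker_comp {θ : S → ℂ} (hθ : IsIrrCharacter S θ) (hne : ∃ s : S, θ s ≠ θ 1) :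
    chKer (⟨θ ∘ g, isIrr_comp g hg hθ⟩ : IrrCharacter N) = R := by
  have hRle : R ≤ chKer (⟨θ ∘ g, isIrr_comp g hg hθ⟩ : IrrCharacter N) := by
    intro n hn
    rw [mem_chKer]
    change θ (g n) = θ (g 1)
    rw [(hgR n).2 hn, map_one]
  refine eq_of_simple hs (chKer_normal _) hRle ?_
  intro h
  obtain ⟨s, hs⟩ := hne
  obtain ⟨n, rfl⟩ := hg s
  have h1 : n ∈ chKer (⟨θ ∘ g, isIrr_comp g hg hθ⟩ : IrrCharacter N) := by rw [h]; exact Subgroup.mem_top _
  rw [mem_chKer] at h1
  change θ (g n) = θ (g 1) at h1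
  rw [map_one] at h1
  exact hs h1

/-- **(ii)** products -/
theorem part_ii (hna : ¬ IsMulCommutative (N ⧸ R)) {d : ℕ} (hd : d ∈ charDegrees S) :
    ∃ e ∈ charDegrees G, d ^ (TR N R).index ∣ e := by
  by_cases hd1 : d = 1
  · subst hd1
    exact ⟨1, mem_charDegrees.2 ⟨1, isIrr_one, by simp⟩, by rw [one_pow]⟩
  · obtain ⟨θ, hθ, hθd⟩ := mem_charDegrees.1 hd
    have hne : ∃ s : S, θ s ≠ θ 1 := by
      by_contra hcon
      push Not at hcon
      exact hd1 (eq_one_of_const hθ hθd hcon)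
    have hker := ker_comp N R hs hπ hg hgπ hgR hθ hne
    set α : IrrCharacter N := ⟨θ ∘ g, isIrr_comp g hg hθ⟩ with hα
    have key : ∀ (R' : Subgroup N) (_ : R' = R) [R'.Normal], IsSimpleGroup (N ⧸ R') ∧ ¬ IsMulCommutative (N ⧸ R') := by
      intro R' h _
      subst h
      exact ⟨hs, hna⟩
    obtain ⟨e, he, h1⟩ := H559.AD.exists_pow_dvd N α (key _ hker).1 (key _ hker).2
    refine ⟨e, he, ?_⟩
    have h2 : charDegree (α : N → ℂ) = d := by
      apply H672.charDegree_of_eq
      rw [hα]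
      change θ (g 1) = d
      rw [map_one, hθd]
    have h3 : TT N α = TR N R := by
      rw [← hker]
      rfl
    rwa [h2, h3] at h1

end parts

/-- tensor induction -/
def TensIrr : Prop := ∀ {G : Type u} [Group G] [Finite G] (N : Subgroup G) [N.Normal] (R : Subgroup N) [R.Normal]
    (_ : IsSimpleGroup (N ⧸ R)) (_ : ¬ IsMulCommutative (N ⧸ R)) {ψ : TR N R → ℂ} (_ : IsIrrCharacter (TR N R) ψ)
    (_ : IsIrrCharacter N (fun n => ψ (Subgroup.inclusion (le_TR N R) n)))
    (_ : ∀ n : N, ψ (Subgroup.inclusion (le_TR N R) n) = ψ 1 ↔ n ∈ R),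
    charDegree ψ ^ (TR N R).index ∈ charDegrees G

/-- **(iii)** tensor induction -/
theorem part_iii (htens : TensIrr.{u}) {G : Type u} [Group G] [Finite G] (N : Subgroup G) [hN : N.Normal]
    (R : Subgroup N) [hR : R.Normal] (hs : IsSimpleGroup (N ⧸ R)) (hna : ¬ IsMulCommutative (N ⧸ R)) {A : Type u}
    [Group A] [Finite A] {S : Subgroup A} {π : TR N R →* A} (hπ : Function.Surjective π) {g : N →* S}
    (hg : Function.Surjective g) (hgπ : ∀ n : N, ((g n : S) : A) = π (Subgroup.inclusion (le_TR N R) n))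
    (hgR : ∀ n : N, g n = 1 ↔ n ∈ R) {ψ : A → ℂ} {d : ℕ} (hψ : IsIrrCharacter A ψ) (hd : ψ 1 = d)
    (hres : IsIrrCharacter S (fun s : S => ψ s)) : d ^ (TR N R).index ∈ charDegrees G := by
  by_cases hd1 : d = 1
  · subst hd1
    rw [one_pow]
    exact mem_charDegrees.2 ⟨1, isIrr_one, by simp⟩
  · have hS1 : (fun s : S => ψ s) 1 = (d : ℂ) := hd
    have hne : ∃ s : S, (fun s : S => ψ s) s ≠ (fun s : S => ψ s) 1 := by
      by_contra hcon
      push Not at hcon
      exact hd1 (eq_one_of_const hres hS1 hcon)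
    have hker := ker_comp N R hs hπ hg hgπ hgR hres hne
    have h1 : IsIrrCharacter (TR N R) (ψ ∘ π) := isIrr_comp π hπ hψ
    have hval : ∀ n : N, (ψ ∘ π) (Subgroup.inclusion (le_TR N R) n) = ψ (g n : S) := by
      intro n
      rw [hgπ]
      rfl
    have h2 : IsIrrCharacter N (fun n => (ψ ∘ π) (Subgroup.inclusion (le_TR N R) n)) := by
      have h3 := isIrr_comp g hg hres
      have h4 : (fun n => (ψ ∘ π) (Subgroup.inclusion (le_TR N R) n)) = (fun s : S => ψ s) ∘ g := funext hval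
      rw [h4]
      exact h3
    have h5 := htens N R hs hna h1 h2 (by
      intro n
      rw [hval, Function.comp_apply, map_one, ← hker, mem_chKer]
      change _ ↔ ψ (g n : S) = ψ (g 1 : S)
      rw [map_one]
      rfl)
    have h6 : charDegree (ψ ∘ π) = d := by
      apply H672.charDegree_of_eq
      rw [Function.comp_apply, map_one, hd]
    rwa [h6] at h5

/-- a maximal normal subgroup -/
theorem exists_max {W : Type u} [Group W] [Finite W] [Nontrivial W] (hperf : commutator W = ⊤) :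
    ∃ (R : Subgroup W) (_ : R.Normal), R ≠ ⊤ ∧ IsSimpleGroup (W ⧸ R) ∧ ¬ IsMulCommutative (W ⧸ R) := by
  classical
  obtain ⟨R, ⟨hRn, hRt⟩, hmax⟩ := (Set.toFinite {R : Subgroup W | R.Normal ∧ R ≠ ⊤}).exists_maximal
    ⟨⊥, inferInstance, bot_ne_top⟩
  refine ⟨R, hRn, hRt, ?_, ?_⟩
  · have hnt : Nontrivial (W ⧸ R) := by
      by_contra hcon
      rw [not_nontrivial_iff_subsingleton] at hcon
      apply hRt
      rw [eq_top_iff]
      intro x _
      exact (QuotientGroup.eq_one_iff x).1 (Subsingleton.elim _ _)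
    refine ⟨fun H hH => ?_⟩
    have h1 : (H.comap (QuotientGroup.mk' R)).Normal := hH.comap _
    have h2 : R ≤ H.comap (QuotientGroup.mk' R) := by
      intro x hx
      rw [Subgroup.mem_comap, QuotientGroup.mk'_apply, (QuotientGroup.eq_one_iff x).2 hx]
      exact H.one_mem
    by_cases h3 : H.comap (QuotientGroup.mk' R) = ⊤
    · right
      rw [eq_top_iff]
      intro y _
      obtain ⟨x, rfl⟩ := QuotientGroup.mk'_surjective R y
      have : x ∈ H.comap (QuotientGroup.mk' R) := by rw [h3]; exact Subgroup.mem_top x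
      exact this
    · left
      have h4 := hmax (⟨h1, h3⟩ : H.comap (QuotientGroup.mk' R) ∈ {R : Subgroup W | R.Normal ∧ R ≠ ⊤}) h2
      rw [eq_bot_iff]
      intro y hy
      obtain ⟨x, rfl⟩ := QuotientGroup.mk'_surjective R y
      rw [Subgroup.mem_bot, QuotientGroup.mk'_apply, QuotientGroup.eq_one_iff]
      exact h4 hy
  · intro h
    apply hRt
    rw [eq_top_iff, ← hperf, _root_.commutator_def, Subgroup.commutator_le]
    intro a _ b _
    rw [← QuotientGroup.eq_one_iff]
    change QuotientGroup.mk' R (a * b * a⁻¹ * b⁻¹) = 1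
    rw [map_mul, map_mul, map_mul, map_inv, map_inv, h.is_comm.comm (QuotientGroup.mk' R a)]
    group

/-- **C2, the general part** -/
theorem c2_gen_of (htens : TensIrr.{u}) {Y : Type u} [Group Y] [Finite Y] (W : Subgroup Y) (hW : W.Normal)
    (hne : W ≠ ⊥) (hmin : ∀ K : Subgroup Y, K.Normal → K ≤ W → K = ⊥ ∨ K = W) (hna : ¬ IsMulCommutative W)
    (hns : ¬ IsSimpleGroup W) :
    ∃ (k : ℕ) (A : Type u) (_ : Group A) (_ : Finite A) (S : Subgroup A), 2 ≤ k ∧ AlmostSimple A S ∧
      (∀ (ψ : A → ℂ) (d : ℕ), IsIrrCharacter A ψ → ψ 1 = d → (∃ s ∈ S, ψ s ≠ ψ 1) → k * d ∈ charDegrees Y) ∧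
      (∀ d ∈ charDegrees S, ∃ e ∈ charDegrees Y, d ^ k ∣ e) ∧
      (∀ (ψ : A → ℂ) (d : ℕ), IsIrrCharacter A ψ → ψ 1 = d → IsIrrCharacter S (fun s : S => ψ s) →
        d ^ k ∈ charDegrees Y) := by
  have hntW : Nontrivial W := (Subgroup.nontrivial_iff_ne_bot W).2 hne
  -- `W` is perfect
  have hperf : commutator W = ⊤ := by
    have h1 : ((commutator W).map W.subtype).Normal := inferInstance
    rcases hmin _ h1 (Subgroup.map_subtype_le _) with h | h
    · exfalso
      apply hna
      have h2 : commutator W = ⊥ := (Subgroup.map_eq_bot_iff_of_injective _ W.subtype_injective).1 h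
      refine ⟨⟨fun a b => ?_⟩⟩
      have h3 : ⁅a, b⁆ ∈ commutator W := by
        rw [_root_.commutator_def]
        exact Subgroup.commutator_mem_commutator (Subgroup.mem_top a) (Subgroup.mem_top b)
      rw [h2, Subgroup.mem_bot, commutatorElement_eq_one_iff_mul_comm] at h3
      exact h3
    · rw [eq_top_iff]
      intro x _
      have h2 : (x : Y) ∈ (commutator W).map W.subtype := by rw [h]; exact x.2
      obtain ⟨y, hy, hxy⟩ := h2
      have : y = x := Subtype.ext hxy
      rwa [← this]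
  obtain ⟨R, hR, hRt, hs, hna'⟩ := exists_max hperf
  obtain ⟨A, _, _, S, π, g, hAS, hπ, hg, hgπ, hgR⟩ := exists_setup W R hs hna'
  refine ⟨(TR W R).index, A, inferInstance, inferInstance, S, ?_, hAS, ?_, ?_, ?_⟩
  · by_contra hlt
    have h0 : (TR W R).index ≠ 0 := Subgroup.index_ne_zero_of_finite
    have h1 : (TR W R).index = 1 := by omega
    rw [Subgroup.index_eq_one] at h1
    have h2 : (R.map W.subtype).Normal := by
      refine ⟨fun x hx y => ?_⟩
      obtain ⟨n, hn, rfl⟩ := hx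
      have hy : y ∈ TR W R := by rw [h1]; exact Subgroup.mem_top y
      refine ⟨_, (hy n).2 hn, ?_⟩
      rw [Subgroup.coe_subtype, MulAut.conjNormal_apply]
    rcases hmin _ h2 (Subgroup.map_subtype_le _) with h | h
    · have h3 : R = ⊥ := (Subgroup.map_eq_bot_iff_of_injective _ W.subtype_injective).1 h
      subst h3
      exact hns (QuotientGroup.quotientBot (G := W)).symm.isSimpleGroup
    · apply hRt
      rw [eq_top_iff]
      intro x _
      have h2 : (x : Y) ∈ R.map W.subtype := by rw [h]; exact x.2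
      obtain ⟨y, hy, hxy⟩ := h2
      have : y = x := Subtype.ext hxy
      rwa [← this]
  · intro ψ d hψ hd hne
    exact part_i W R hs hπ hg hgπ hgR hψ hd hne
  · intro d hd
    exact part_ii W R hs hπ hg hgπ hgR hna' hd
  · intro ψ d hψ hd hres
    exact part_iii htens W R hs hna' hπ hg hgπ hgR hψ hd hres

end Cfsg.Agent.H487.AN
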