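import Cfsg.Agent.H487.AN.LieLarge
import Cfsg.Agent.H487.AN.RowsB
import Cfsg.Agent.H704.DS.Final
import Cfsg.Agent.H89.AN.AOneTwo

/-!
# S4766, C1: almost simple groups whose degrees are degrees of `A_n` (helper487)

`c1_of` : C1, given the classification and Itô–Michler.
-/

set_option autoImplicit false
set_option linter.unusedSectionVars false

universe u

namespace Cfsg.Agent.H487.AN

open Cfsg Subgroup Cfsg.Agent.H704 Cfsg.Agent.H704.DSA Cfsg.Agent.H691.AN Cfsg.Agent.H835.AN
open Cfsg.Agent.H704.DS (IM SubDeg)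

/-- a subgroup of index one -/
theorem subDegA_of_index_one {n : ℕ} {A : Type u} [Group A] [Finite A] (S : Subgroup A) (h : S.index = 1)
    (hd : SubDegA n A) : SubDegA n S := by
  rw [index_eq_one] at h
  have e : A ≃* S := (topEquiv.symm).trans (MulEquiv.subgroupCongr h.symm)
  exact subDegA_congr e hd

/-- a subgroup of index at most two -/
theorem degOKA_of_index {n : ℕ} {A : Type u} [Group A] [Finite A] (S : Subgroup A) (h : S.index ∣ 2)
    (hd : SubDegA n A) : DegOKA n S := by
  rcases (Nat.dvd_prime Nat.prime_two).1 h with h1 | h2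
  · intro ψ hψ
    obtain ⟨d, h2, h3⟩ := subDegA_of_index_one S h1 hd ψ hψ
    exact ⟨d, h2, Or.inl h3.symm⟩
  · intro ψ hψ
    obtain ⟨χ, h3, h4⟩ := H621.SymDeg.exists_over h2 hψ
    obtain ⟨d, h5, h6⟩ := hd χ h3
    refine ⟨d, h5, ?_⟩
    rw [← h6]
    exact h4

/-- the sporadic socles -/
theorem spor_falseA {n : ℕ} (h5 : 5 ≤ n) {A : Type u} [Group A] [Finite A] (S : Subgroup A) [S.Normal] (him : IM S)
    (h : IsSporadicGroup S) (hind : S.index ∣ Nat.card (Cfsg.Out S)) (hd : SubDegA n A) : False := by
  have h0 := h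
  have hi2 : S.index ∣ 2 := hind.trans (H149.Sp.card_out_dvd_two h)
  have hOK := degOKA_of_index S hi2 hd
  have hidx : ∀ {X : Type} [Group X], Nonempty (S ≃* X) → Nat.card (Cfsg.Out X) = 1 → S.index ∣ 1 := by
    rintro X _ ⟨e⟩ hX
    rwa [H55.OutGen.card_out_congr e, hX] at hind
  have hone : ∀ {X : Type} [Group X], Nonempty (S ≃* X) → Nat.card (Cfsg.Out X) = 1 → SubDegA n S := by
    intro X _ h1 h2
    exact subDegA_of_index_one S (Nat.dvd_one.1 (hidx h1 h2)) hd
  have hend : SubDeg n A → False := fun hd => H704.DS.spor_false h5 S him h0 hind hd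
  rcases h with h | h | h | h | h | h | h | h | h | h | h | h | h | h | h | h | h | h | h | h | h | h | h | h | h | h
  · exact hend (transfer_of S him hd (NotCT.Orders.m11 h) (hidx h S2060.result) (by norm_num) (by norm_num) t_m11)
  · exact hend (transfer_of S him hd (NotCT.Orders.m12 h) hi2 (by norm_num) (by norm_num) t_m12)
  · exact rowA_m22 h h5 hOK
  · exact hend (transfer_of S him hd (NotCT.Orders.m23 h) (hidx h S2063.result) (by norm_num) (by norm_num) t_m23)
  · exact hend (transfer_of S him hd (NotCT.Orders.m24 h) (hidx h S2064.result) (by norm_num) (by norm_num) t_m24)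
  · exact hend (transfer_of S him hd (NotCT.Orders.j1 h) (hidx h S2065.result) (by norm_num) (by norm_num) t_j1)
  · -- `J2`
    have h10 := rowA_j2 h h5 hOK
    subst h10
    exact j2_ten S h hd
  · exact hend (transfer_of S him hd (NotCT.Orders.j3 h) hi2 (by norm_num) (by norm_num) t_j3)
  · exact rowA_j4 h (hone h S2068.result)
  · exact rowA_co1 h (hone h S2069.result)
  · exact rowA_co2 h (hone h S2070.result)
  · exact hend (transfer_of S him hd (NotCT.Orders.co3 h) (hidx h S2071.result) (by norm_num) (by norm_num) t_co3)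
  · -- `McL`
    have h11 := rowA_mcl h h5 hOK
    subst h11
    exact mcl_eleven S h hi2 hd
  · exact rowA_hs h h5 hOK
  · exact rowA_suz h h5 hOK
  · exact hend (transfer_of S him hd (NotCT.Orders.he h) hi2 (by norm_num) (by norm_num) t_he)
  · exact hend (transfer_of S him hd (NotCT.Orders.ru h) (hidx h S2077.result) (by norm_num) (by norm_num) t_ru)
  · exact hend (transfer_of S him hd (NotCT.Orders.on h) hi2 (by norm_num) (by norm_num) t_on)
  · exact rowA_ly h (hone h S2076.result)
  · exact rowA_fi22 h h5 hOK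
  · exact rowA_fi23 h h5 (hone h S2080.result)
  · exact rowA_fi24 h hOK
  · exact rowA_hn h hOK
  · exact rowA_th h (hone h S2083.result)
  · exact rowA_b h (hone h S2084.result)
  · exact rowA_m h (hone h S2085.result)

/-- **the main case analysis** -/
theorem socleA {n : ℕ} (h5 : 5 ≤ n) {A : Type u} [Group A] [Finite A] (S : Subgroup A) [S.Normal] [IsSimpleGroup S]
    (hkn : IsKnownSimple' S) (him : IM S) (hna : ¬ IsMulCommutative S) (hind : S.index ∣ Nat.card (Cfsg.Out S))
    (hd : SubDegA n A) : Nonempty (S ≃* alternatingGroup (Fin n)) := by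
  rcases PreUniq.known_cases hkn with h | ⟨m, hm, ⟨e⟩⟩ | ⟨p, hp, h⟩ | h | h
  · exfalso
    have : Fact (Nat.card S).Prime := ⟨h⟩
    have : IsCyclic S := isCyclic_of_prime_card (p := Nat.card S) rfl
    exact hna inferInstance
  · have := alt_case S lowA h5 hm e hind hd
    subst this
    exact ⟨e⟩
  · rcases Nat.lt_or_ge n 10 with h10 | h10
    · exact lie_small h5 (by omega) S hna hp h hind hd
    · exact (lie_largeA h10 S hna hp h hind hd).elim
  · exfalso
    have h1 : S.index ∣ 2 := by
      have h2 := H867.TitsOut.card_out_le h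
      have h3 : 0 < Nat.card (Cfsg.Out S) := Nat.card_pos
      have h4 : Nat.card (Cfsg.Out S) = 1 ∨ Nat.card (Cfsg.Out S) = 2 := by omega
      rcases h4 with h4 | h4
      · rw [h4] at hind; exact hind.trans (one_dvd 2)
      · rw [h4] at hind; exact hind
    exact H334.DS.TitsRow.row_tits h him (H704.DS.degOK_of_index S h1
      (transfer_of S him hd (NotCT.Orders.tits h) h1 (by norm_num) (by norm_num) t_tits))
  · exact (spor_falseA h5 S him h hind hd).elim

/-- C1 of S4766, from the classification and Itô–Michler -/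
theorem c1_of (hkn : ∀ (X : Type u) [Group X] [Finite X] [IsSimpleGroup X], IsKnownSimple' X)
    (him : ∀ (X : Type u) [Group X] [Finite X] [IsSimpleGroup X], ¬ IsMulCommutative X → IM X)
    {n : ℕ} (hn : 5 ≤ n) {A : Type u} [Group A] [Finite A] {S : Subgroup A}
    (hA : AlmostSimple A S) (h : charDegrees A ⊆ D n) : Nonempty (S ≃* An n) := by
  have := hA.normal
  have := hA.simple
  exact socleA hn S (hkn S) (him S hA.nonab) hA.nonab
    (H816.OutEmb.index_dvd S (by rw [hA.cent]; exact bot_le))
    (subDegA_of (fun {_} hn {_} hd => H89.AN.a2_part hn hd) (by omega) h)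

end Cfsg.Agent.H487.AN
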