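import Cfsg.Agent.H487.AN.LieSmall
import Cfsg.Agent.H487.AN.Alt
import Cfsg.Agent.H704.DS.LieLarge
import Cfsg.Agent.H71.AN.Deg

/-!
# S4766, C1: socle of Lie type, `n ≥ 10` (helper487, after helper704)
-/

set_option autoImplicit false
set_option linter.unusedSectionVars false

universe u

namespace Cfsg.Agent.H487.AN

open Cfsg Subgroup Cfsg.Agent.H704 Cfsg.Agent.H704.DSA Cfsg.Agent.H704.DS Cfsg.Agent.NotCT
open scoped commutatorElement

/-- the prime power degrees of `A_n` -/
theorem ppA {n : ℕ} (hn : 10 ≤ n) {p k : ℕ} (hp : p.Prime) (hk : 0 < k) (h : IsDegA n (p ^ k)) : p ^ k = n - 1 := by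
  rcases h.cases with h | ⟨l, hl, hs, h⟩
  · rcases pp_theorem hn h hp hk (Or.inl rfl) with h3 | ⟨rfl, h3⟩
    · exact h3
    · exfalso
      have h4 : (2 : ℕ) ∣ p ^ k := by rw [h3]; norm_num
      have h5 : (3 : ℕ) ∣ p ^ k := by rw [h3]; norm_num
      have h6 := (Nat.prime_dvd_prime_iff_eq Nat.prime_two hp).1 (Nat.prime_two.dvd_of_dvd_pow h4)
      have h7 := (Nat.prime_dvd_prime_iff_eq Nat.prime_three hp).1 (Nat.prime_three.dvd_of_dvd_pow h5)
      omega
  · exfalso
    have h3 := H71.AN.self_ge (by omega) hl hs h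
    rcases pp_theorem hn ⟨l, hl, h⟩ hp hk (Or.inr rfl) with h4 | ⟨rfl, h4⟩
    · rw [h4] at h3
      obtain ⟨m, rfl⟩ := Nat.exists_eq_add_of_le hn
      rw [show 10 + m - 3 = m + 7 by omega, show 10 + m - 1 = m + 9 by omega] at h3
      nlinarith
    · have h5 := H71.AN.le_of_mul_hook hl.sorted (H71.AN.self_twelve hl hs) h
      omega

/-- **Lie type, `n ≥ 10`** -/
theorem lie_largeA {n : ℕ} (hn : 10 ≤ n) {A : Type u} [Group A] [Finite A] (S : Subgroup A) [S.Normal]
    [IsSimpleGroup S] (hna : ¬ IsMulCommutative S) {p : ℕ} (hp : p.Prime) (hl : IsLieTypeChar p S)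
    (hind : S.index ∣ Nat.card (Cfsg.Out S)) (hd : SubDegA n A) : False := by
  have : Fact p.Prime := ⟨hp⟩
  obtain ⟨q, hq⟩ : ∃ q, q = p ^ (Nat.card S).factorization p := ⟨_, rfl⟩
  have hst : IsDegA n q := by
    rw [hq]
    exact SubA_st S hd hp hl
  have hpS : p ∣ Nat.card S := by
    obtain ⟨t, k, hv, ht⟩ := exists_typ hp hl
    have ho := card_eq hp hv ht
    refine dvd_trans ?_ (NotCT.dvd_card hp hv ho)
    apply dvd_pow_self
    have h1 := one_le_k hv
    have h2 := NotCT.N_pos hv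
    have := Nat.mul_pos h1 h2
    omega
  have he : 0 < (Nat.card S).factorization p := hp.factorization_pos_of_dvd Nat.card_pos.ne' hpS
  have hqn : q = n - 1 := by
    rw [hq]
    exact ppA hn hp he (hq ▸ hst)
  have hperf := perfect_of_simple hna
  obtain ⟨ψ, e, h1, h2, h3, h4, h5, h6⟩ := H621.SymDeg.exists_irr_not_dvd hperf hp hpS
  obtain ⟨d, hdA, h7, h8⟩ := H424.DegTools.clifford_up S (H681.DegBasic.mem_charDegrees.2 ⟨ψ, h1, h2⟩)
  obtain ⟨χ, hχ, hχ1⟩ := H681.DegBasic.mem_charDegrees.1 hdA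
  obtain ⟨d', hd', hd1⟩ := hd χ hχ
  have hdd : d = d' := by
    rw [hχ1] at hd1
    exact_mod_cast hd1
  subst hdd
  have hd0 : 0 < d := hd'.pos
  have hed : e ≤ d := Nat.le_of_dvd hd0 h7
  have hsq : d * d < Nat.card A := sq_lt_card hχ hχ1 (by omega)
  have hA : Nat.card A ≤ Nat.card S * Nat.card (Cfsg.Out S) := by
    rw [← S.card_mul_index]
    exact Nat.mul_le_mul_left _ (Nat.le_of_dvd Nat.card_pos hind)
  have hdn : d ≠ n - 1 := by
    rw [← hqn, hq]
    intro h0
    rw [h0] at h7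
    obtain ⟨j, -, hj⟩ := (Nat.dvd_prime_pow hp).1 h7
    cases j with
    | zero => rw [pow_zero] at hj; omega
    | succ j => exact h4 (hj ▸ dvd_pow_self p (by omega))
  have hbig : n * (n - 3) ≤ 2 * d := by
    rcases low_degreeA hn hd' with h | h | h
    · omega
    · exact absurd h hdn
    · exact h
  rcases H334.DS.out_bound hna hp hl q hq (by omega) with h | h | h
  · have e1 : (q + 1) * (q - 2) = n * (n - 3) := by
      rw [show q + 1 = n by omega, show q - 2 = n - 3 by omega]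
    rw [e1] at h
    have e2 : (n * (n - 3)) ^ 2 ≤ (2 * d) ^ 2 := Nat.pow_le_pow_left hbig 2
    have e3 : (2 * d) ^ 2 = 4 * (d * d) := by ring
    omega
  · obtain ⟨e⟩ := S0497.result h
    have := alt_case S lowA (by omega) (by norm_num) e hind hd
    omega
  · obtain ⟨g1, g2⟩ := out_4080 hp hl q hq (by omega) h
    have hn17 : n = 17 := by omega
    subst hn17
    have hp2 : p = 2 := by
      have : p ∣ 16 := by
        rw [← g2, hq]
        exact dvd_pow_self p (by omega)
      rw [show 16 = 2 ^ 4 by norm_num] at this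
      exact (Nat.prime_dvd_prime_iff_eq hp Nat.prime_two).1 (hp.dvd_of_dvd_pow this)
    subst hp2
    rw [h] at h5 h6 hA
    obtain ⟨m, rfl⟩ := h7
    rw [Nat.mul_div_cancel_left _ (by omega)] at h8
    have hm : m ≤ 4 := (Nat.le_of_dvd Nat.card_pos (h8.trans hind)).trans g1
    have hd127 : e * m ≤ 127 := by
      by_contra hcon
      have : 128 * 128 ≤ e * m * (e * m) := Nat.mul_le_mul (by omega) (by omega)
      have h9 : 4080 * Nat.card (Cfsg.Out S) ≤ 4080 * 4 := Nat.mul_le_mul_left _ g1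
      omega
    refine small_4080 (e := e) (m := m) ?_ h5 h4 h3 (by omega) (by omega) hd127
    by_contra hcon
    have : 64 * 64 ≤ e * e := Nat.mul_le_mul (by omega) (by omega)
    omega

end Cfsg.Agent.H487.AN
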