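import Cfsg.Agent.H487.AN.Base
import Cfsg.Agent.H657.DS.LieSmall
import Cfsg.Agent.Characters.Linear

/-!
# S4766, C1, Lie type and small degree (helper487, after helper657)

`lie_small` : an almost simple group with socle `S` of Lie type, all of whose degrees are degrees of `A_n`,
`5 ≤ n ≤ 9`, has socle `A_n`.
-/

set_option autoImplicit false

open Cfsg Cfsg.Agent.H704 Cfsg.Agent.NotCT Cfsg.Agent.H704.DSA Cfsg.Agent.H835.AN

namespace Cfsg.Agent.H487.AN

open Cfsg.Agent.H681.DegBasic (mem_charDegrees)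
open Cfsg.Agent.H657.DS (card_typ isLie_psl exists_field mem_equiv card_u33 ord_u33 chk mem_of_chk typ_mem typ_five
  typ_seven typ_four typ_nine typ_64 typ_8 typ_27)

universe u v

theorem SubA_mem {n : ℕ} {G : Type u} [Group G] [Finite G] (h : SubDegA n G) {c : ℕ} (hc : c ∈ charDegrees G) :
    IsDegA n c := by
  obtain ⟨χ, hχ, hc1⟩ := mem_charDegrees.1 hc
  obtain ⟨d, hd, hd1⟩ := h χ hχ
  rw [hc1] at hd1
  have : c = d := by exact_mod_cast hd1
  rwa [this]

section basic

variable {n : ℕ} {A : Type u} [Group A] [Finite A] (S : Subgroup A) [S.Normal]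

/-- over a degree of `S` -/
theorem SubA_over (h : SubDegA n A) {c : ℕ} (hc : c ∈ charDegrees S) : ∃ d, IsDegA n d ∧ c ∣ d ∧ d / c ∣ S.index := by
  obtain ⟨d, hd, h1, h2⟩ := H424.DegTools.clifford_up S hc
  exact ⟨d, SubA_mem h hd, h1, h2⟩

/-- the Steinberg character -/
theorem SubA_st (h : SubDegA n A) [IsSimpleGroup S] {p : ℕ} (hp : p.Prime) (hl : IsLieTypeChar p S) :
    IsDegA n (p ^ (Nat.card S).factorization p) := by
  have := Fact.mk hp
  obtain ⟨χ, hχ, -, hχ1⟩ := H691.StExt.exists_ext S (H996.AllSplit.hasSplit_of_lie hp hl)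
  obtain ⟨Q⟩ := (inferInstance : Nonempty (Sylow p S))
  obtain ⟨d, hd, hd1⟩ := h χ hχ
  have h1 := hχ1 Q
  rw [Q.card_eq_multiplicity] at h1
  have h2 : d = p ^ (Nat.card S).factorization p := by
    have := hd1.symm.trans h1
    exact_mod_cast this
  rwa [← h2]

/-- the type -/
theorem SubA_typ (h : SubDegA n A) [IsSimpleGroup S] {p : ℕ} (hp : p.Prime) (hl : IsLieTypeChar p S) :
    ∃ (t : Typ) (k : ℕ), t.Valid p k ∧ IsTyp t (p ^ k) S ∧ IsDegA n (p ^ (k * t.N)) := by
  obtain ⟨t, k, hv, ht⟩ := exists_typ hp hl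
  have ho := card_eq hp hv ht
  have h0 := H808.SmallSylow.ordProj_eq hp Nat.card_pos.ne' (dvd_card hp hv ho) (not_dvd_card hp hv ho)
  refine ⟨t, k, hv, ht, ?_⟩
  rw [← h0]
  exact SubA_st S h hp hl

end basic

theorem degA5 {d : ℕ} (h : IsDegA 5 d) : d ∈ [1, 3, 4, 5] := mem_degA (by norm_num) (by norm_num) h

theorem degA6 {d : ℕ} (h : IsDegA 6 d) : d ∈ [1, 5, 8, 9, 10] := mem_degA (by norm_num) (by norm_num) h

theorem degA7 {d : ℕ} (h : IsDegA 7 d) : d ∈ [1, 6, 10, 14, 15, 21, 35] := mem_degA (by norm_num) (by norm_num) h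

theorem degA8 {d : ℕ} (h : IsDegA 8 d) : d ∈ [1, 7, 14, 20, 21, 28, 35, 45, 56, 64, 70] :=
  mem_degA (by norm_num) (by norm_num) h

theorem degA9 {d : ℕ} (h : IsDegA 9 d) : d ∈ [1, 8, 21, 27, 28, 35, 42, 48, 56, 84, 105, 120, 162, 168, 189, 216] :=
  mem_degA (by norm_num) (by norm_num) h

/-- prime powers at most 216 -/
theorem pa_casesA {L : List ℕ} (hL : ∀ m ∈ L, m ≤ 216) {p a : ℕ} (hp : p.Prime) (h : p ^ a ∈ L) (ha : 1 ≤ a) :
    (a = 1 ∧ p ∈ L) ∨ (2 ≤ a ∧ a < 8 ∧ p < 15) := by
  rcases ha.eq_or_lt with rfl | h2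
  · left
    rw [pow_one] at h
    exact ⟨rfl, h⟩
  · right
    have h1 := hL _ h
    have hp2 := hp.two_le
    refine ⟨h2, ?_, ?_⟩
    · by_contra hcon
      have h3 : 2 ^ 8 ≤ p ^ a := (Nat.pow_le_pow_left hp2 8).trans (Nat.pow_le_pow_right (by omega) (by omega))
      omega
    · by_contra hcon
      have h3 : 15 ^ 2 ≤ p ^ a := (Nat.pow_le_pow_left (by omega) 2).trans (Nat.pow_le_pow_right (by omega) h2)
      omega

/-- numbers that are not primes -/
def nonPrimesA : List ℕ := [4, 6, 14, 15, 20, 21, 35, 28, 42, 45, 56, 64, 70, 90, 8, 9, 10, 16, 27, 48, 84, 105, 120,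
  162, 168, 189, 216, 1]

theorem not_primeA {m : ℕ} (hm : m ∈ nonPrimesA) : ¬ m.Prime := by
  simp only [nonPrimesA, List.mem_cons, List.not_mem_nil, or_false] at hm
  rcases hm with rfl | rfl | rfl | rfl | rfl | rfl | rfl | rfl | rfl | rfl | rfl | rfl | rfl | rfl | rfl | rfl |
    rfl | rfl | rfl | rfl | rfl | rfl | rfl | rfl | rfl | rfl | rfl | rfl <;> norm_num

/-- the check: all prime powers in `L` are `p ^ a`, `(p, a) ∈ C` -/
def chkA (L : List ℕ) (C : List (ℕ × ℕ)) : Bool :=
  (L.all fun m => nonPrimesA.contains m || C.contains (m, 1)) &&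
  ((List.range 15).all fun p => (List.range 8).all fun a => decide (p < 2) || decide (a < 2) || nonPrimesA.contains p ||
    !L.contains (p ^ a) || C.contains (p, a)) && L.all fun m => decide (m ≤ 216)

theorem mem_of_chkA {L : List ℕ} {C : List (ℕ × ℕ)} (h : chkA L C = true) {p a : ℕ} (hp : p.Prime) (h1 : p ^ a ∈ L)
    (ha : 1 ≤ a) : (p, a) ∈ C := by
  simp only [chkA, Bool.and_eq_true, List.all_eq_true, Bool.or_eq_true, decide_eq_true_eq, List.contains_iff_mem,
    List.mem_range, Bool.not_eq_true'] at h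
  obtain ⟨⟨h2, h3⟩, h4⟩ := h
  rcases pa_casesA h4 hp h1 ha with ⟨rfl, h5⟩ | ⟨h5, h6, h7⟩
  · rcases h2 p h5 with h6 | h6
    · exact absurd hp (not_primeA h6)
    · exact h6
  · rcases h3 p h7 a h6 with (((h8 | h8) | h8) | h8) | h8
    · have := hp.two_le
      omega
    · omega
    · exact absurd hp (not_primeA h8)
    · exfalso
      rw [← Bool.not_eq_true, List.contains_iff_mem] at h8
      exact h8 h1
    · exact h8

/-- the defining characteristic -/
theorem pa_degA {n : ℕ} (h5 : 5 ≤ n) (h9 : n ≤ 9) {p a : ℕ} (hp : p.Prime) (h : IsDegA n (p ^ a)) (ha : 1 ≤ a) :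
    (n = 5 ∧ (p, a) ∈ [(3, 1), (5, 1), (2, 2)]) ∨ (n = 6 ∧ (p, a) ∈ [(5, 1), (2, 3), (3, 2)]) ∨
      (n = 8 ∧ (p, a) ∈ [(7, 1), (2, 6)]) ∨ (n = 9 ∧ (p, a) ∈ [(2, 3), (3, 3)]) := by
  interval_cases n
  · exact Or.inl ⟨rfl, mem_of_chkA (by decide +kernel) hp (degA5 h) ha⟩
  · exact Or.inr (Or.inl ⟨rfl, mem_of_chkA (by decide +kernel) hp (degA6 h) ha⟩)
  · have h1 : (p, a) ∈ [] := mem_of_chkA (by decide +kernel) hp (degA7 h) ha
    exact absurd h1 List.not_mem_nil
  · exact Or.inr (Or.inr (Or.inl ⟨rfl, mem_of_chkA (by decide +kernel) hp (degA8 h) ha⟩))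
  · exact Or.inr (Or.inr (Or.inr ⟨rfl, mem_of_chkA (by decide +kernel) hp (degA9 h) ha⟩))

theorem typ_threeA {t : Typ} {k : ℕ} (hv : t.Valid 3 k) (hk : k * t.N = 1) : (t, k) ∈ ([] : List (Typ × ℕ)) :=
  typ_mem 3 1 _ (by decide +kernel) hv hk

/-! ### `PSU_3(3)` -/

/-- the degrees of `S` below the degrees of `A_9`, `|A : S| ≤ 2` -/
def degCA : List ℕ := [1, 8, 21, 27, 28, 35, 42, 48, 56, 4, 14, 24, 60]

theorem mem_degCA {c d : ℕ} (hd : d ∈ [1, 8, 21, 27, 28, 35, 42, 48, 56, 84, 105, 120, 162, 168, 189, 216])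
    (hc : d = c ∨ d = 2 * c) (h77 : c ≤ 77) : c ∈ degCA := by
  have key : ∀ c < 78, ∀ d ∈ [1, 8, 21, 27, 28, 35, 42, 48, 56, 84, 105, 120, 162, 168, 189, 216], d = c ∨ d = 2 * c →
      c ∈ degCA := by
    decide +kernel
  exact key c (by omega) d hd hc

theorem degCA_false {c D : ℕ} (hc : c ∈ degCA) (hD : D ∈ degCA) {e : ℤ} (he : e = 1 ∨ e = -1)
    (h7 : (7 : ℤ) ∣ (c : ℤ) - e) (h : (1 : ℤ) - 27 + e * c = D ∨ (1 : ℤ) - 27 + e * c = -D) : False := by
  have key : ∀ c ∈ degCA, ∀ D ∈ degCA, ∀ e ∈ ([1, -1] : List ℤ), (7 : ℤ) ∣ (c : ℤ) - e →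
      ¬ ((1 : ℤ) - 27 + e * c = D ∨ (1 : ℤ) - 27 + e * c = -D) := by
    decide +kernel
  exact key c hc D hD e (by rcases he with rfl | rfl <;> simp) h7 h

theorem u33_falseA {A : Type u} [Group A] [Finite A] (S : Subgroup A) [S.Normal] [IsSimpleGroup S] (h : SubDegA 9 A)
    {F : Type} [Field F] [Fintype F] (hF : Fintype.card F = (3 ^ 1) ^ 2) (e : S ≃* PSU 3 F (3 ^ 1))
    (hl : IsLieTypeChar 3 S) (hind : S.index ∣ 2) : False := by
  classical
  have : Fact (Nat.Prime 3) := ⟨Nat.prime_three⟩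
  have : Fact (Nat.Prime 7) := ⟨by norm_num⟩
  have hcard := card_u33 hF e
  have := Characters.Core.finite_irr (G := S)
  have := Fintype.ofFinite (IrrCharacter S)
  have hdeg : ∀ χ : IrrCharacter S, charDegree (χ : S → ℂ) ∈ degCA := by
    intro χ
    obtain ⟨d, h1, h2, h3⟩ := SubA_over S h (c := charDegree (χ : S → ℂ)) ⟨χ, rfl⟩
    have hpos : 0 < charDegree (χ : S → ℂ) := H686.CharKit.charDegree_pos χ
    refine mem_degCA (degA9 h1) ?_ ?_
    · obtain ⟨k, rfl⟩ := h2
      rw [Nat.mul_div_cancel_left _ hpos] at h3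
      have h4 := h3.trans hind
      have h5 := Nat.le_of_dvd (by norm_num) h4
      have h6 : k ≠ 0 := by rintro rfl; simp at h4
      have h7 : k = 1 ∨ k = 2 := by omega
      rcases h7 with rfl | rfl
      · left; ring
      · right; ring
    · have h4 := H686.CharKit.sum_deg_sq (G := S)
      have h5 : (charDegree (χ : S → ℂ)) ^ 2 ≤ ∑ χ : IrrCharacter S, (charDegree (χ : S → ℂ)) ^ 2 :=
        Finset.single_le_sum (f := fun χ : IrrCharacter S => (charDegree (χ : S → ℂ)) ^ 2) (fun _ _ => Nat.zero_le _)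
          (Finset.mem_univ χ)
      rw [h4, hcard] at h5
      by_contra hcon
      have : 78 ^ 2 ≤ (charDegree (χ : S → ℂ)) ^ 2 := Nat.pow_le_pow_left (by omega) 2
      omega
  obtain ⟨φ1, d1⟩ := H175.Eight.exists_triv S
  obtain ⟨φ27, d27⟩ : ∃ φ : IrrCharacter S, charDegree (φ : S → ℂ) = 27 := by
    obtain ⟨χ, hχ, hχS, hχ1⟩ := H691.StExt.exists_ext S (H996.AllSplit.hasSplit_of_lie Nat.prime_three hl)
    refine ⟨⟨_, hχS⟩, ?_⟩
    obtain ⟨Q⟩ := (inferInstance : Nonempty (Sylow 3 S))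
    have h1 := hχ1 Q
    rw [Q.card_eq_multiplicity, hcard, show (6048 : ℕ) = 3 ^ 3 * 224 from rfl,
      Nat.factorization_mul (by norm_num) (by norm_num), Finsupp.add_apply,
      Nat.Prime.factorization_pow Nat.prime_three, Finsupp.single_eq_same,
      Nat.factorization_eq_zero_of_not_dvd (by norm_num)] at h1
    apply Blocks.Basic.charDegree_of_eq
    exact h1
  obtain ⟨NE, X, ε, D, B⟩ := H175.Eight.exists_blk (G := S) (p := 7) (by norm_num) hcard (by norm_num) (by norm_num)
    (ord_u33 hF e) (e := 3) (t := 2) (by norm_num) (by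
      intro e' h1 h2 h3
      have h4 := Nat.le_of_dvd (by norm_num) h1
      interval_cases e' <;> revert h1 h2 h3 <;> decide)
  have m1 : φ1 ∈ NE := B.mem_NE d1 (by norm_num) (by norm_num) (by norm_num)
  have m27 : φ27 ∈ NE := B.mem_NE d27 (by norm_num) (by norm_num) (by norm_num)
  have e1 : ε φ1 = 1 := B.sign_pos (by norm_num) m1 d1 (by norm_num)
  have e27 : ε φ27 = -1 := B.sign_neg (by norm_num) m27 d27 (by norm_num)
  have n1 : φ1 ≠ φ27 := H175.Eight.ne_of_deg d1 d27 (by norm_num)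
  obtain ⟨χ, hχ, hχn⟩ : ∃ χ ∈ NE, χ ∉ ({φ1, φ27} : Finset (IrrCharacter S)) := by
    by_contra hcon
    push Not at hcon
    have h1 := Finset.card_le_card (show NE ⊆ {φ1, φ27} from hcon)
    rw [B.card_NE] at h1
    have h2 := Finset.card_le_two (a := φ1) (b := φ27)
    omega
  simp only [Finset.mem_insert, Finset.mem_singleton, not_or] at hχn
  have hNE : NE = {φ1, φ27, χ} := by
    symm
    apply Finset.eq_of_subset_of_card_le
    · intro x hx
      simp only [Finset.mem_insert, Finset.mem_singleton] at hx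
      rcases hx with rfl | rfl | rfl <;> assumption
    · rw [B.card_NE, Finset.card_insert_of_notMem (by simp [n1, Ne.symm hχn.1]),
        Finset.card_insert_of_notMem (by simp [Ne.symm hχn.2]), Finset.card_singleton]
  obtain ⟨ξ, hξ⟩ : X.Nonempty := by rw [← Finset.card_pos, B.card_X]; norm_num
  have hD : D ∈ degCA := by
    rw [← B.degX ξ hξ]
    exact hdeg ξ
  have hs := B.sum
  rw [hNE, Finset.sum_insert (by simp [n1, Ne.symm hχn.1]), Finset.sum_insert (by simp [Ne.symm hχn.2]),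
    Finset.sum_singleton, e1, e27, d1, d27] at hs
  refine degCA_false (hdeg χ) hD (B.sign χ hχ) (B.congr χ hχ) ?_
  rcases hs with hs | hs
  · left
    rw [← hs]
    push_cast
    ring
  · right
    rw [← hs]
    push_cast
    ring

/-! ### `PSL_2(8).3` -/

open scoped commutatorElement in
theorem perfect_of_simpleA {S : Type u} [Group S] [IsSimpleGroup S] (hna : ¬ IsMulCommutative S) :
    commutator S = ⊤ := by
  rcases (inferInstance : (commutator S).Normal).eq_bot_or_eq_top with h | h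
  · exfalso
    apply hna
    refine ⟨⟨fun a b => ?_⟩⟩
    have h1 : ⁅a, b⁆ ∈ commutator S := by
      rw [_root_.commutator_def]
      exact Subgroup.commutator_mem_commutator (Subgroup.mem_top a) (Subgroup.mem_top b)
    rw [h, Subgroup.mem_bot, commutatorElement_eq_one_iff_mul_comm] at h1
    exact h1
  · exact h

/-- the number of the linear characters -/
theorem card_linear {A : Type u} [Group A] [Finite A] [Fintype (IrrCharacter A)] (S : Subgroup A) [S.Normal]
    (hS : commutator S = ⊤) : (Finset.univ.filter fun χ : IrrCharacter A => charDegree (χ : A → ℂ) = 1).card ∣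
      S.index := by
  classical
  have h1 : (Finset.univ.filter fun χ : IrrCharacter A => charDegree (χ : A → ℂ) = 1).card = (commutator A).index := by
    rw [← Characters.Linear.card_hom_eq_index_commutator, Nat.card_congr (Characters.Linear.linearEquiv A),
      Nat.card_eq_fintype_card, Fintype.card_subtype]
    congr 1
    ext χ
    simp only [Finset.mem_filter, Finset.mem_univ, true_and]
    rw [Blocks.Basic.irr_one_eq_charDegree χ.2]
    norm_cast
  rw [h1]
  apply Subgroup.index_dvd_of_le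
  have h2 : (commutator S).map S.subtype = S := by
    rw [hS, ← MonoidHom.range_eq_map, Subgroup.range_subtype]
  rw [← h2, _root_.commutator_def, Subgroup.map_commutator, _root_.commutator_def]
  exact Subgroup.commutator_mono le_top le_top

theorem l28_num {a x y z w : ℕ} (h0 : a ∣ 3) (h : a + 64 * x + 441 * y + 729 * z + 784 * w = 1512) : False := by
  have h1 := Nat.le_of_dvd (by norm_num) h0
  have hy : y ≤ 3 := by omega
  have hz : z ≤ 2 := by omega
  have hw : w ≤ 1 := by omega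
  interval_cases w <;> interval_cases z <;> interval_cases y <;> omega

theorem l28_false {A : Type u} [Group A] [Finite A] (S : Subgroup A) [S.Normal] [IsSimpleGroup S] (h : SubDegA 9 A)
    (hna : ¬ IsMulCommutative S) (hc : Nat.card S = 504) (hi : S.index = 3) : False := by
  classical
  have hA : Nat.card A = 1512 := by rw [← S.card_mul_index, hc, hi]
  have := Characters.Core.finite_irr (G := A)
  have := Fintype.ofFinite (IrrCharacter A)
  have hsum := H686.CharKit.sum_deg_sq (G := A)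
  rw [hA] at hsum
  have hperf : commutator S = ⊤ := perfect_of_simpleA hna
  have hlin := card_linear S hperf
  rw [hi] at hlin
  have hdeg : ∀ χ : IrrCharacter A, charDegree (χ : A → ℂ) ∈ ({1, 8, 21, 27, 28} : Finset ℕ) := by
    intro χ
    have h1 := degA9 (SubA_mem h (c := charDegree (χ : A → ℂ)) ⟨χ, rfl⟩)
    have h2 : charDegree (χ : A → ℂ) ∣ 1512 := by
      rw [← hA]
      exact Blocks.Knorr.charDegree_dvd χ.2
    have h3 : (charDegree (χ : A → ℂ)) ^ 2 ≤ 1512 := by
      rw [← hsum]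
      exact Finset.single_le_sum (f := fun χ : IrrCharacter A => (charDegree (χ : A → ℂ)) ^ 2)
        (fun _ _ => Nat.zero_le _) (Finset.mem_univ χ)
    generalize charDegree (χ : A → ℂ) = c at h1 h2 h3
    have key : ∀ c ∈ [1, 8, 21, 27, 28, 35, 42, 48, 56, 84, 105, 120, 162, 168, 189, 216], c ∣ 1512 → c ^ 2 ≤ 1512 →
        c ∈ ({1, 8, 21, 27, 28} : Finset ℕ) := by decide
    exact key c h1 h2 h3
  have h1 := Finset.sum_fiberwise_of_maps_to (s := Finset.univ) (t := ({1, 8, 21, 27, 28} : Finset ℕ))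
    (g := fun χ : IrrCharacter A => charDegree (χ : A → ℂ)) (fun χ _ => hdeg χ)
    (fun χ => (charDegree (χ : A → ℂ)) ^ 2)
  have h2 : ∀ y : ℕ, ∑ χ ∈ Finset.univ.filter (fun χ : IrrCharacter A => charDegree (χ : A → ℂ) = y),
      (charDegree (χ : A → ℂ)) ^ 2 =
        (Finset.univ.filter (fun χ : IrrCharacter A => charDegree (χ : A → ℂ) = y)).card * y ^ 2 := by
    intro y
    rw [Finset.sum_congr rfl (g := fun _ => y ^ 2) (fun χ hχ => by rw [(Finset.mem_filter.1 hχ).2]), Finset.sum_const,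
      smul_eq_mul]
  rw [Finset.sum_congr rfl (fun y _ => h2 y), hsum] at h1
  rw [Finset.sum_insert (by decide), Finset.sum_insert (by decide), Finset.sum_insert (by decide),
    Finset.sum_insert (by decide), Finset.sum_singleton] at h1
  refine l28_num hlin (x := (Finset.univ.filter (fun χ : IrrCharacter A => charDegree (χ : A → ℂ) = 8)).card)
    (y := (Finset.univ.filter (fun χ : IrrCharacter A => charDegree (χ : A → ℂ) = 21)).card)
    (z := (Finset.univ.filter (fun χ : IrrCharacter A => charDegree (χ : A → ℂ) = 27)).card)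
    (w := (Finset.univ.filter (fun χ : IrrCharacter A => charDegree (χ : A → ℂ) = 28)).card) ?_
  rw [← h1]
  ring

/-! ### the other groups -/

section kill

variable {n : ℕ} {A : Type u} [Group A] [Finite A] (S : Subgroup A) [S.Normal]

theorem SubA_kill (h : SubDegA n A) {c : ℕ} (hc : c ∈ charDegrees S) {L : List ℕ} (hL : ∀ d, IsDegA n d → d ∈ L)
    (hno : ∀ d ∈ L, ¬ c ∣ d) : False := by
  obtain ⟨d, h1, h2, -⟩ := SubA_over S h hc
  exact hno d (hL d h1) h2

theorem SubA_kill' (h : SubDegA n A) {c m : ℕ} (hc : c ∈ charDegrees S) {L : List ℕ} (hL : ∀ d, IsDegA n d → d ∈ L)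
    (hi : S.index ∣ m) (hno : ∀ d ∈ L, c ∣ d → ¬ d / c ∣ m) : False := by
  obtain ⟨d, h1, h2, h3⟩ := SubA_over S h hc
  exact hno d (hL d h1) h2 (h3.trans hi)

/-- the order and the Steinberg character -/
theorem SubA_st_card (h : SubDegA n A) [IsSimpleGroup S] {p : ℕ} (hp : p.Prime) (hl : IsLieTypeChar p S) {k m : ℕ}
    (hc : Nat.card S = p ^ k * m) (hm : ¬ p ∣ m) : IsDegA n (p ^ k) := by
  have h1 := SubA_st S h hp hl
  have hm0 : m ≠ 0 := by rintro rfl; exact hm (dvd_zero p)
  rwa [hc, Nat.factorization_mul (pow_ne_zero _ hp.ne_zero) hm0, Finsupp.add_apply,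
    Nat.factorization_eq_zero_of_not_dvd hm, add_zero, hp.factorization_pow, Finsupp.single_eq_same] at h1

end kill

/-- **LIE-SMALL.** -/
theorem lie_small {n : ℕ} (h5 : 5 ≤ n) (h9 : n ≤ 9) {A : Type u} [Group A] [Finite A] (S : Subgroup A) [S.Normal]
    [IsSimpleGroup S] (hna : ¬ IsMulCommutative S) {p : ℕ} (hp : p.Prime) (hl : IsLieTypeChar p S)
    (hind : S.index ∣ Nat.card (Cfsg.Out S)) (hd : SubDegA n A) : Nonempty (S ≃* alternatingGroup (Fin n)) := by
  have : Fact p.Prime := ⟨hp⟩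
  have p2 : Fact (Nat.Prime 2) := ⟨Nat.prime_two⟩
  have p3 : Fact (Nat.Prime 3) := ⟨Nat.prime_three⟩
  have p7 : Fact (Nat.Prime 7) := ⟨by norm_num⟩
  obtain ⟨t, k, hv, ht, hdeg⟩ := SubA_typ S hd hp hl
  have ha : 1 ≤ k * t.N := Nat.mul_pos (one_le_k hv) (N_pos hv)
  rcases pa_degA h5 h9 hp hdeg ha with ⟨rfl, h1⟩ | ⟨rfl, h1⟩ | ⟨rfl, h1⟩ | ⟨rfl, h1⟩
  · -- n = 5
    simp only [List.mem_cons, List.not_mem_nil, or_false, Prod.mk.injEq] at h1
    rcases h1 with ⟨rfl, h1⟩ | ⟨rfl, h1⟩ | ⟨rfl, h1⟩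
    · exact absurd (typ_threeA hv h1) List.not_mem_nil
    · have h2 := typ_five hv h1
      simp only [List.mem_cons, List.not_mem_nil, or_false, Prod.mk.injEq] at h2
      obtain ⟨rfl, rfl⟩ := h2
      obtain ⟨F, _, _, hF, ⟨e⟩⟩ := ht
      obtain ⟨e'⟩ := S0253.result (F := F) (by rw [hF]; norm_num)
      exact ⟨e.trans e'⟩
    · have h2 := typ_four hv h1
      simp only [List.mem_cons, List.not_mem_nil, or_false, Prod.mk.injEq] at h2
      obtain ⟨rfl, rfl⟩ := h2
      obtain ⟨F, _, _, hF, ⟨e⟩⟩ := ht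
      obtain ⟨e'⟩ := S0252.result (F := F) (by rw [hF]; norm_num)
      exact ⟨e.trans e'⟩
  · -- n = 6
    simp only [List.mem_cons, List.not_mem_nil, or_false, Prod.mk.injEq] at h1
    rcases h1 with ⟨rfl, h1⟩ | ⟨rfl, h1⟩ | ⟨rfl, h1⟩
    · exfalso
      have h2 := typ_five hv h1
      simp only [List.mem_cons, List.not_mem_nil, or_false, Prod.mk.injEq] at h2
      obtain ⟨rfl, rfl⟩ := h2
      have hc : Nat.card S = 60 := card_typ hp _ hv ht (d := 2) (by decide +kernel) (by decide +kernel) (by norm_num)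
      obtain ⟨F, _, _, hF, ⟨e⟩⟩ := ht
      obtain ⟨e'⟩ := S0253.result (F := F) (by rw [hF]; norm_num)
      obtain ⟨K, _, _, hK⟩ := exists_field 2 2 (by norm_num)
      obtain ⟨e2⟩ := S0252.result (F := K) (by rw [hK]; norm_num)
      have hl2 : IsLieTypeChar 2 S := isLie_psl Nat.prime_two hK le_rfl (fun _ => by rw [hK]; norm_num)
        ((e.trans e').trans e2.symm)
      have h3 := SubA_st_card S hd Nat.prime_two hl2 (k := 2) (m := 15) (by rw [hc]; norm_num) (by norm_num)
      exact absurd (degA6 h3) (by decide)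
    · exfalso
      have h2 := typ_8 hv h1
      simp only [List.mem_cons, List.not_mem_nil, or_false, Prod.mk.injEq] at h2
      rcases h2 with ⟨rfl, rfl⟩ | ⟨rfl, rfl⟩
      · obtain ⟨F, _, _, hF, ⟨e⟩⟩ := ht
        have : CharP F 2 := H175.Eight.charP_of_card Nat.prime_two hF
        obtain ⟨-, -, h7⟩ := H664.R1.PSLTwo.degrees_even (F := F) (by rw [hF]; norm_num)
        rw [hF] at h7
        exact SubA_kill S hd (mem_equiv e h7) (fun _ => degA6) (by decide +kernel)
      · have hc : Nat.card S = 168 := card_typ hp _ hv ht (d := 1) (by decide +kernel) (by decide +kernel) (by norm_num)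
        obtain ⟨e2⟩ := S0495.result hc (F := ZMod 7) (by rw [ZMod.card])
        have hl2 : IsLieTypeChar 7 S := isLie_psl (k := 1) (F := ZMod 7) (by norm_num) (by rw [ZMod.card]; norm_num)
          (m := 2) le_rfl (fun _ => by rw [ZMod.card]; norm_num) e2
        have h3 := SubA_st_card S hd (by norm_num) hl2 (k := 1) (m := 24) (by rw [hc]; norm_num) (by norm_num)
        exact absurd (degA6 h3) (by decide)
    · have h2 := typ_nine hv h1
      simp only [List.mem_cons, List.not_mem_nil, or_false, Prod.mk.injEq] at h2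
      obtain ⟨rfl, rfl⟩ := h2
      obtain ⟨F, _, _, hF, ⟨e⟩⟩ := ht
      obtain ⟨e'⟩ := S0254.result (F := F) (by rw [hF]; norm_num)
      exact ⟨e.trans e'⟩
  · -- n = 8
    simp only [List.mem_cons, List.not_mem_nil, or_false, Prod.mk.injEq] at h1
    rcases h1 with ⟨rfl, h1⟩ | ⟨rfl, h1⟩
    · exfalso
      have h2 := typ_seven hv h1
      simp only [List.mem_cons, List.not_mem_nil, or_false, Prod.mk.injEq] at h2
      obtain ⟨rfl, rfl⟩ := h2
      have hc : Nat.card S = 168 := card_typ hp _ hv ht (d := 2) (by decide +kernel) (by decide +kernel) (by norm_num)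
      obtain ⟨F, _, _, hF, ⟨e⟩⟩ := ht
      have hs : IsSimpleGroup (Matrix.ProjectiveSpecialLinearGroup (Fin 3) (ZMod 2)) := S0249.result 3 le_rfl
      have hc3 : Nat.card (Matrix.ProjectiveSpecialLinearGroup (Fin 3) (ZMod 2)) = 168 := by
        refine card_typ (k := 1) Nat.prime_two (.L 3) (by decide) ⟨ZMod 2, _, inferInstance, by rw [ZMod.card]; norm_num,
          ⟨MulEquiv.refl _⟩⟩ (d := 1) (by decide +kernel) (by decide +kernel) (by norm_num)
      have : Finite (Matrix.ProjectiveSpecialLinearGroup (Fin 3) (ZMod 2)) :=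
        Nat.finite_of_card_ne_zero (by rw [hc3]; norm_num)
      obtain ⟨e2⟩ := S0495.result hc3 (F := F) (by rw [hF]; norm_num)
      have hl2 : IsLieTypeChar 2 S := isLie_psl (k := 1) (F := ZMod 2) Nat.prime_two (by rw [ZMod.card]; norm_num)
        (m := 3) (by norm_num) (fun h => by omega) (e.trans e2.symm)
      have h3 := SubA_st_card S hd Nat.prime_two hl2 (k := 3) (m := 21) (by rw [hc]; norm_num) (by norm_num)
      exact absurd (degA8 h3) (by decide)
    · have h2 := typ_64 hv h1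
      simp only [List.mem_cons, List.not_mem_nil, or_false, Prod.mk.injEq] at h2
      rcases h2 with ⟨rfl, rfl⟩ | ⟨rfl, rfl⟩ | ⟨rfl, rfl⟩ | ⟨rfl, rfl⟩ | ⟨rfl, rfl⟩ | ⟨rfl, rfl⟩
      · exfalso
        obtain ⟨F, _, _, hF, ⟨e⟩⟩ := ht
        have : CharP F 2 := H175.Eight.charP_of_card Nat.prime_two hF
        obtain ⟨-, h17, -⟩ := H664.R1.PSLTwo.degrees_even (F := F) (by rw [hF]; norm_num)
        rw [hF] at h17
        exact SubA_kill S hd (mem_equiv e h17) (fun _ => degA8) (by decide +kernel)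
      · exfalso
        obtain ⟨F, _, _, hF, ⟨e⟩⟩ := ht
        have h63 := (H175.Eight.mem_l34 (F := F) (by rw [hF]; norm_num) 63).2 (by decide)
        exact SubA_kill S hd (mem_equiv e h63) (fun _ => degA8) (by decide +kernel)
      · obtain ⟨F, _, _, hF, ⟨e⟩⟩ := ht
        obtain ⟨e'⟩ := S0256.result (F := F) (by rw [hF]; norm_num)
        exact ⟨e.trans e'⟩
      · exfalso
        obtain ⟨F, _, _, hF, ⟨e⟩⟩ := ht
        have h65 := (H664.R1.U3.degrees hF (by norm_num) e).1
        exact SubA_kill S hd h65 (fun _ => degA8) (by decide +kernel)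
      · exfalso
        obtain ⟨F, _, _, hF, ⟨e⟩⟩ := ht
        obtain ⟨-, χ, -, h2, -, h24⟩ := H113.PSU.Left43.u42 (F := F) (by rw [hF]; norm_num)
        have h24' : 24 ∈ charDegrees (PSU 4 F (2 ^ 1)) := mem_charDegrees.2 ⟨χ, h2, by rw [h24]; norm_num⟩
        exact SubA_kill S hd (mem_equiv e h24') (fun _ => degA8) (by decide +kernel)
      · exfalso
        have hc : Nat.card S = 29120 := card_typ hp _ hv ht (d := 1) (by decide +kernel) (by decide +kernel) (by norm_num)
        obtain ⟨F, _, _, m, hF, hm, ⟨e⟩⟩ := ht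
        have hm1 : m = 1 := by
          have := Nat.pow_right_injective (le_refl 2) hm
          omega
        subst hm1
        have p13 : Fact (Nat.Prime 13) := ⟨by norm_num⟩
        obtain ⟨χ, hχ⟩ := H732.DegSz.im S ⟨F, inferInstance, inferInstance, 1, le_rfl, hF, ⟨e⟩⟩ inferInstance (p := 13)
          (by rw [hc]; norm_num)
        obtain ⟨d, h1, h2, -⟩ := SubA_over S hd (c := charDegree (χ : S → ℂ)) ⟨χ, rfl⟩
        have h3 : ∀ d ∈ [1, 7, 14, 20, 21, 28, 35, 45, 56, 64, 70], ¬ 13 ∣ d := by decide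
        exact h3 d (degA8 h1) (hχ.trans h2)
  · -- n = 9
    simp only [List.mem_cons, List.not_mem_nil, or_false, Prod.mk.injEq] at h1
    exfalso
    rcases h1 with ⟨rfl, h1⟩ | ⟨rfl, h1⟩
    · have h2 := typ_8 hv h1
      simp only [List.mem_cons, List.not_mem_nil, or_false, Prod.mk.injEq] at h2
      rcases h2 with ⟨rfl, rfl⟩ | ⟨rfl, rfl⟩
      · have hc : Nat.card S = 504 := card_typ hp _ hv ht (d := 1) (by decide +kernel) (by decide +kernel) (by norm_num)
        obtain ⟨F, _, _, hF, ⟨e⟩⟩ := ht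
        have : CharP F 2 := H175.Eight.charP_of_card Nat.prime_two hF
        obtain ⟨-, -, h7⟩ := H664.R1.PSLTwo.degrees_even (F := F) (by rw [hF]; norm_num)
        rw [hF] at h7
        have ho : Nat.card (Out S) = 3 := by
          rw [Nat.card_congr (H234.OutGood.outCongr e).toEquiv,
            H60.HalfPsl.card_out (F := F) (p := 2) (f := 3) (by norm_num) hF (by norm_num)]
          decide
        rw [ho] at hind
        rcases (Nat.dvd_prime Nat.prime_three).1 hind with h3 | h3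
        · exact SubA_kill' S hd (m := 1) (mem_equiv e h7) (fun _ => degA9) (by rw [h3]) (by decide +kernel)
        · exact l28_false S hd hna hc h3
      · have hc : Nat.card S = 168 := card_typ hp _ hv ht (d := 1) (by decide +kernel) (by decide +kernel) (by norm_num)
        obtain ⟨e2⟩ := S0495.result hc (F := ZMod 7) (by rw [ZMod.card])
        have hl2 : IsLieTypeChar 7 S := isLie_psl (k := 1) (F := ZMod 7) (by norm_num) (by rw [ZMod.card]; norm_num)
          (m := 2) le_rfl (fun _ => by rw [ZMod.card]; norm_num) e2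
        have h3 := SubA_st_card S hd (by norm_num) hl2 (k := 1) (m := 24) (by rw [hc]; norm_num) (by norm_num)
        exact absurd (degA9 h3) (by decide)
    · have h2 := typ_27 hv h1
      simp only [List.mem_cons, List.not_mem_nil, or_false, Prod.mk.injEq] at h2
      rcases h2 with ⟨rfl, rfl⟩ | ⟨rfl, rfl⟩ | ⟨rfl, rfl⟩
      · obtain ⟨F, _, _, hF, ⟨e⟩⟩ := ht
        obtain ⟨-, -, h26⟩ := H664.R1.PSLTwo.degrees_odd (F := F) (by rw [hF]; decide) (by rw [hF]; norm_num)
        rw [hF] at h26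
        exact SubA_kill S hd (mem_equiv e h26) (fun _ => degA9) (by decide +kernel)
      · obtain ⟨F, _, _, hF, ⟨e⟩⟩ := ht
        have h13 := (H175.Eight.mem_l33 (F := F) (by rw [hF]; norm_num) 13).2 (by decide)
        exact SubA_kill S hd (mem_equiv e h13) (fun _ => degA9) (by decide +kernel)
      · obtain ⟨F, _, _, hF, ⟨e⟩⟩ := ht
        have ho : Nat.card (Out S) = 2 := by
          rw [Nat.card_congr (H234.OutGood.outCongr e).toEquiv,
            H149.PGU.card_out_psu (p := 3) (f := 1) le_rfl rfl hF le_rfl (by norm_num)]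
          decide
        rw [ho] at hind
        exact u33_falseA S hd hF e hl hind

end Cfsg.Agent.H487.AN
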