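import Cfsg.Agent.H487.AN.Transfer
import Cfsg.Agent.H705.DS.Tools
import Cfsg.Agent.H417.DegMTwentyTwo
import Cfsg.Agent.H417.RecogMathieu
import Cfsg.Agent.H953.DS.RowJ2
import Cfsg.Agent.H221.DS.JTwoTen
import Cfsg.Agent.H732.DS.McLDeg
import Cfsg.Agent.H765.DS.HSMcL
import Cfsg.Agent.H292.DS.Rows
import Cfsg.Agent.H3.DS.Fi22Row
import Cfsg.Agent.H293.DS.RowFi24
import Cfsg.Agent.H999.DS.RowJ4
import Cfsg.Agent.H999.DS.RowLy
import Cfsg.Agent.H999.DS.RowTh
import Cfsg.Agent.H48.DS.RowM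

/-!
# S4766, C1: the sporadic rows with known degrees (helper487)
-/

set_option autoImplicit false
set_option linter.unusedSectionVars false
set_option maxRecDepth 100000

namespace Cfsg.Agent.H487.AN

open Cfsg Cfsg.Agent.H704 Cfsg.Agent.H704.DSA Cfsg.Agent.H704.DS Cfsg.Agent.H835.AN

universe u v

/-- a known degree -/
def Has (K : Type*) [Group K] (m : ℕ) : Prop := ∃ ψ : K → ℂ, IsIrrCharacter K ψ ∧ ψ 1 = (m : ℂ)

section

variable {K : Type u} [Group K] [Finite K] {n m : ℕ}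

theorem SubDegA.has (hd : SubDegA n K) (h : Has K m) : IsDegA n m := by
  obtain ⟨ψ, h1, h2⟩ := h
  exact hd.nat h1 h2

theorem DegOKA.has (hd : DegOKA n K) (h : Has K m) : IsDegA n m ∨ IsDegA n (2 * m) := by
  obtain ⟨ψ, h1, h2⟩ := h
  exact hd.nat h1 h2

theorem SubDegA.isDeg (hd : SubDegA n K) (h : Has K m) (hm : okA m = true) : IsDeg n m :=
  isDeg_of_isDegA (hd.has h) hm

theorem DegOKA.isDeg (hd : DegOKA n K) (h : Has K m) (hm : (okA m && okA (2 * m)) = true) :
    IsDeg n m ∨ IsDeg n (2 * m) := by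
  rw [Bool.and_eq_true] at hm
  exact (hd.has h).imp (fun h => isDeg_of_isDegA h hm.1) (fun h => isDeg_of_isDegA h hm.2)

theorem prime_leA {n d p : ℕ} (h : IsDegA n d) (hp : p.Prime) (hd : p ∣ d) : p ≤ n :=
  (hp.dvd_factorial).1 (hd.trans h.dvd)

theorem Has.congr {T : Type v} [Group T] (e : K ≃* T) (h : Has T m) : Has K m := by
  obtain ⟨χ, h1, h2⟩ := h
  exact ⟨χ ∘ e.toMonoidHom, Characters.Core.isIrr_comp e.toMonoidHom e.surjective h1, by
    rw [Function.comp_apply, map_one, h2]⟩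

end

/-! ### larger degrees -/

theorem tg43_chk : ((List.range 19).all fun i => Nat.ble 684656640 (tg (43 + i) 12)) = true := by decide +kernel

theorem sc_ge43 {l : List ℕ} {n d : ℕ} (hn : 43 ≤ n) (hl : IsPart l n) (ht : transpose l = l)
    (hd : d * hookProd l = n.factorial) : 684656640 ≤ d := by
  rcases Nat.lt_or_ge n 62 with h | h
  · refine sc_lb (K := 12) hl ht hd (by omega) ((lbt (by omega) (by omega) le_rfl).mono ?_)
    have h1 := List.all_eq_true.1 tg43_chk (n - 43) (by rw [List.mem_range]; omega)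
    rw [show 43 + (n - 43) = n by omega] at h1
    exact Nat.le_of_ble_eq_true h1
  · refine sc_lb (K := 12) hl ht hd (by omega) (lb_high (m := 60) le_rfl le_rfl (by omega) ?_)
    decide +kernel

theorem sc_ge62 {l : List ℕ} {n d : ℕ} (hn : 62 ≤ n) (hl : IsPart l n) (ht : transpose l = l)
    (hd : d * hookProd l = n.factorial) : 100000000000 ≤ d := by
  refine sc_lb (K := 12) hl ht hd (by omega) (lb_high (m := 60) le_rfl le_rfl (by omega) ?_)
  decide +kernel

theorem isDeg43 {n d : ℕ} (h : IsDegA n d) (hn : 43 ≤ n) (hd : 2 * d < 684656640) : IsDeg n d := by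
  rcases h.cases with h | ⟨l, h1, h2, h3⟩
  · exact h
  · exfalso
    have := sc_ge43 hn h1 h2 h3
    omega

theorem isDeg62 {n d : ℕ} (h : IsDegA n d) (hn : 62 ≤ n) (hd : 2 * d < 100000000000) : IsDeg n d := by
  rcases h.cases with h | ⟨l, h1, h2, h3⟩
  · exact h
  · exfalso
    have := sc_ge62 hn h1 h2 h3
    omega

/-! ### the rows -/

section

variable {K : Type u} [Group K] [Finite K] {n : ℕ}

theorem has_m22 (h : Spor.IsoM22 K) : Has K 21 ∧ Has K 45 ∧ Has K 385 := by
  obtain ⟨f, hf⟩ := H417.DegMTwentyTwo.exists_enum (H417.RecogMathieu.isM22 h)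
  have key : ∀ i : Fin 12, ∀ m : ℕ, M22.DegreesEnd.LB.getD i 0 = m → Has K m := by
    intro i m hm
    obtain ⟨e, -, he⟩ := Characters.Core.isIrr_apply_one (f i).2
    have h1 : charDegree (f i : K → ℂ) = e := by
      rw [charDegree, he]; simp
    rw [hf i, hm] at h1
    exact ⟨f i, (f i).2, by rw [he, h1]⟩
  exact ⟨key 1 21 rfl, key 2 45 rfl, key 11 385 rfl⟩

theorem rowA_m22 (h : Spor.IsoM22 K) (_hn : 5 ≤ n) (hd : DegOKA n K) : False := by
  obtain ⟨k1, k2, k3⟩ := has_m22 h
  have h11 : 11 ≤ n := by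
    rcases hd.has k3 with h | h
    · exact prime_leA h (by norm_num) (by norm_num)
    · exact prime_leA h (by norm_num) (by norm_num)
  have l1 := (hd.has k1).imp (low_degreeA (by omega)) (low_degreeA (by omega))
  have l2 := (hd.has k2).imp (low_degreeA (by omega)) (low_degreeA (by omega))
  have hn2 : n ≤ 43 := by
    by_contra hlt
    have h1 : 44 * 41 ≤ n * (n - 3) := Nat.mul_le_mul (by omega) (by omega)
    omega
  interval_cases n <;> omega

theorem rowA_j2 (h : Spor.IsoJ2 K) (hn : 5 ≤ n) (hd : DegOKA n K) : n = 10 := by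
  obtain ⟨k1, k2⟩ := H953.DS.exists_irr h
  have d1 := hd.isDeg (m := 36) (by simpa [Has] using k1) (by decide +kernel)
  have d2 := hd.has (m := 63) (by simpa [Has] using k2)
  by_cases h11 : n = 11
  · exfalso
    subst h11
    rcases d1 with d1 | d1
    · have := check_of_isDeg (chk := fun d => decide (d ≠ 36)) (n := 11) (by decide +kernel) d1
      simp at this
    · have := check_of_isDeg (chk := fun d => decide (d ≠ 72)) (n := 11) (by decide +kernel) d1
      simp at this
  · have d2' : IsDeg n 63 ∨ IsDeg n 126 := by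
      refine d2.imp (fun h => isDeg_of_isDegA h (by decide +kernel)) (fun h => isDeg_of_isDegA' h (by norm_num) ?_)
      intro h26
      have key : ∀ n < 27, n ≠ 11 → 2 * 126 ∉ scl n := by decide +kernel
      exact key n (by omega) h11
    rcases d1 with d1 | d1 <;> rcases d2' with d2 | d2
    · exact H953.DS.arith hn d1 d2 (Or.inl rfl) (Or.inl rfl)
    · exact H953.DS.arith hn d1 d2 (Or.inl rfl) (Or.inr rfl)
    · exact H953.DS.arith hn d1 d2 (Or.inr rfl) (Or.inl rfl)
    · exact H953.DS.arith hn d1 d2 (Or.inr rfl) (Or.inr rfl)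

theorem j2_ten {A : Type u} [Group A] [Finite A] (S : Subgroup A) [S.Normal] (h : Spor.IsoJ2 S)
    (hd : SubDegA 10 A) : False := by
  obtain ⟨χ, h1, h2⟩ := H221.DS.JTwoTen.exists_deg S h
  have h3 : IsDegA 10 63 := hd.nat h1 (by rw [h2]; norm_num)
  exact absurd (mem_degA (by norm_num) (by norm_num) h3) (by decide)

theorem rowA_hs (h : Spor.IsoHS K) (hn : 5 ≤ n) (hd : DegOKA n K) : False := by
  have d1 := hd.isDeg (m := 22) (H765.DS.HSMcL.hs_22 h) (by decide +kernel)
  have d2 := hd.isDeg (m := 77) (H765.DS.HSMcL.hs_77 h) (by decide +kernel)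
  have h1 : n = 11 ∨ n = 23 ∨ n = 45 := by
    rcases d1 with d1 | d1
    · exact H765.DS.HSMcL.of_22 hn d1 (Or.inl rfl)
    · exact H765.DS.HSMcL.of_22 hn d1 (Or.inr rfl)
  rcases h1 with rfl | rfl | rfl
  · rcases d2 with d2 | d2
    · have := H765.DS.HSMcL.no77_11 d2; omega
    · have := H765.DS.HSMcL.no77_11 d2; omega
  · rcases d2 with d2 | d2 <;> rcases low_degree (by norm_num) d2 with h5 | h5 | h5 <;> omega
  · rcases d2 with d2 | d2 <;> rcases low_degree (by norm_num) d2 with h5 | h5 | h5 <;> omega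

theorem rowA_mcl (h : Spor.IsoMcL K) (hn : 5 ≤ n) (hd : DegOKA n K) : n = 11 := by
  have d1 := hd.isDeg (m := 22) (H765.DS.HSMcL.mcl_22 h) (by decide +kernel)
  have d2 := hd.isDeg (m := 252) (H765.DS.HSMcL.mcl_252 h) (by decide +kernel)
  have h1 : n = 11 ∨ n = 23 ∨ n = 45 := by
    rcases d1 with d1 | d1
    · exact H765.DS.HSMcL.of_22 hn d1 (Or.inl rfl)
    · exact H765.DS.HSMcL.of_22 hn d1 (Or.inr rfl)
  rcases h1 with rfl | rfl | rfl
  · rfl
  · exfalso
    rcases d2 with d2 | d2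
    · have := H765.DS.HSMcL.no252_23 d2 (by norm_num); omega
    · have := H765.DS.HSMcL.no252_23 d2 (by norm_num); omega
  · exfalso
    rcases d2 with d2 | d2 <;> rcases low_degree (by norm_num) d2 with h5 | h5 | h5 <;> omega

theorem mcl_eleven {A : Type u} [Group A] [Finite A] (S : Subgroup A) [S.Normal] (h : Spor.IsoMcL S)
    (hind : S.index ∣ 2) (hd : SubDegA 11 A) : False := by
  obtain ⟨χ, hχ, h1⟩ := H732.DS.exists_22_of_index S h hind
  have h3 : IsDegA 11 22 := hd.nat hχ (by rw [h1]; norm_num)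
  exact absurd (mem_degA (by norm_num) (by norm_num) h3) (by decide)

theorem rowA_suz (h : Spor.IsoSuz K) (hn : 5 ≤ n) (hd : DegOKA n K) : False := by
  obtain ⟨h1, h2⟩ := H672.SporIM.suz h
  have d1 := hd.isDeg (m := 1001) (H292.DS.apply_one h1) (by decide +kernel)
  have d2 := hd.isDeg (m := 780) (H292.DS.apply_one h2) (by decide +kernel)
  have key : n = 41 ∨ 58 ≤ n := by
    by_contra hcon
    rcases d2 with d2 | d2
    · by_cases h40 : n ≤ 40
      · exact H292.DS.no_780 hn h40 d2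
      · have e := low_degree (by omega) d2
        have h3 : 42 * 39 ≤ n * (n - 3) := Nat.mul_le_mul (by omega) (by omega)
        omega
    · exact H292.DS.no_1560 hn (by omega) d2
  rcases key with rfl | h58
  · rcases d1 with d1 | d1
    · exact H292.DS.no_1001 le_rfl le_rfl d1
    · exact H292.DS.no_2002 le_rfl le_rfl d1
  · have h3 : 58 * 55 ≤ n * (n - 3) := Nat.mul_le_mul (by omega) (by omega)
    have h4 : n = 781 ∨ n = 1561 := by
      rcases d2 with d2 | d2
      · have e := low_degree (by omega) d2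
        omega
      · have e := low_degree (by omega) d2
        omega
    rcases d1 with d1 | d1
    · have e := low_degree (by omega) d1
      rcases h4 with rfl | rfl <;> omega
    · have e := low_degree (by omega) d1
      rcases h4 with rfl | rfl <;> omega

theorem rowA_fi22 (h : Spor.IsoFi22 K) (hn : 5 ≤ n) (hd : DegOKA n K) : False := by
  obtain ⟨k1, k2⟩ := H3.DS.Fi22.exists_deg h
  have d1 := hd.isDeg (m := 429) k1 (by decide +kernel)
  have d2 := hd.isDeg (m := 3080) k2 (by decide +kernel)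
  rcases d1 with d1 | d1 <;> rcases d2 with d2 | d2
  · exact H3.DS.Fi22.no_both hn d1 d2 (Or.inl rfl) (Or.inl rfl)
  · exact H3.DS.Fi22.no_both hn d1 d2 (Or.inl rfl) (Or.inr rfl)
  · exact H3.DS.Fi22.no_both hn d1 d2 (Or.inr rfl) (Or.inl rfl)
  · exact H3.DS.Fi22.no_both hn d1 d2 (Or.inr rfl) (Or.inr rfl)

theorem rowA_fi23 (h : Spor.IsoFi23 K) (hn : 5 ≤ n) (hd : SubDegA n K) : False := by
  obtain ⟨h1, h2⟩ := H672.SporIM.fi23 h
  have d1 := hd.isDeg (H292.DS.apply_one h1) (by decide +kernel)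
  have d2 := hd.isDeg (H292.DS.apply_one h2) (by decide +kernel)
  by_cases h41 : n ≤ 41
  · exact H292.DS.no_782 hn h41 d2
  · have e1 := low_degree (by omega) d1
    have e2 := low_degree (by omega) d2
    have h3 : 42 * 39 ≤ n * (n - 3) := Nat.mul_le_mul (by omega) (by omega)
    have h4 : n = 783 := by omega
    subst h4
    omega

theorem rowA_fi24 (h : Spor.IsoFi24' K) (hd : DegOKA n K) : False := by
  obtain ⟨e⟩ := h
  have k1 := H293.DS.exists_irr_of_iso e H30.GraphFi24.exists_deg.1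
  have k2 := H293.DS.exists_irr_of_iso e H30.GraphFi24.exists_deg.2
  exact H293.DS.no_fi24 (hd.isDeg k1 (by decide +kernel)) (hd.isDeg k2 (by decide +kernel))

theorem rowA_th (h : Spor.IsoTh K) (hd : SubDegA n K) : False := by
  obtain ⟨e⟩ := h
  obtain ⟨χ, hχ⟩ := H492.FactsTh.exists_61256
  obtain ⟨θ, hθ⟩ := H492.FactsTh.exists_30875
  exact H999.DS.no_th (hd.isDeg (Has.congr e ⟨χ, χ.2, hχ⟩) (by decide +kernel))
    (hd.isDeg (Has.congr e ⟨θ, θ.2, hθ⟩) (by decide +kernel))

theorem rowA_ly (h : Spor.IsoLy K) (hd : SubDegA n K) : False := by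
  obtain ⟨e⟩ := h
  obtain ⟨χ, -, hχ⟩ := H314.LyOrb.exists_deg_ly
  have k1 : Has K 45694 := Has.congr e ⟨χ 1, (χ 1).2, H999.DS.one_of_charDegree (χ 1).2 (hχ 1)⟩
  have k2 : Has K 1534500 := Has.congr e ⟨χ 2, (χ 2).2, H999.DS.one_of_charDegree (χ 2).2 (hχ 2)⟩
  have h67 : 67 ≤ n := prime_leA (hd.has k1) (by norm_num) (by norm_num)
  exact H999.DS.no_ly (hd.isDeg k1 (by decide +kernel)) (isDeg62 (hd.has k2) (by omega) (by norm_num))

theorem rowA_j4 (h : Spor.IsoJ4 K) (hd : SubDegA n K) : False := by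
  obtain ⟨e⟩ := h
  obtain ⟨χ, hχ⟩ := H492.IMJ4.exists_889111
  obtain ⟨θ, hθ⟩ := H492.IMJ4.exists_1776888
  have k1 : Has K 889111 := Has.congr e ⟨χ, χ.2, hχ⟩
  have k2 : Has K 1776888 := Has.congr e ⟨θ, θ.2, hθ⟩
  have h43 : 43 ≤ n := prime_leA (hd.has k1) (by norm_num) (by norm_num)
  exact H999.DS.no_j4 (hd.isDeg k1 (by decide +kernel)) (isDeg43 (hd.has k2) h43 (by norm_num))

theorem rowA_b (h : Spor.IsoB K) (hd : SubDegA n K) : False := by
  refine H48.DS.no_b (hd.isDeg ?_ (by decide +kernel)) (hd.isDeg ?_ (by decide +kernel))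
  · have h0 := h
    obtain ⟨e⟩ := h
    obtain ⟨θ, h1, -, h2⟩ := (H642.Mono.minDeg_b.congr e.symm).ex
    exact ⟨θ, h1, by rw [Blocks.Knorr.charDegree_eq h1, h2]⟩
  · obtain ⟨χ, h1, -⟩ := H995.IMB.deg_b h (d := 96255) (by decide)
    exact ⟨χ, χ.2, h1⟩

theorem rowA_m (h : Spor.IsoM K) (hd : SubDegA n K) : False := by
  have k1 : Has K 196883 := by
    obtain ⟨χ, h1, h2⟩ := H816.IMM.exists_chi_196883 h
    exact ⟨χ, h1, by rw [h2]; norm_num⟩
  have k2 : Has K 842609326 := by
    obtain ⟨χ, h1, h2⟩ := H816.IMM.exists_chi_842609326 h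
    exact ⟨χ, h1, by rw [h2]; norm_num⟩
  have h71 : 71 ≤ n := prime_leA (hd.has k1) (by norm_num) (by norm_num)
  exact H48.DS.no_m (hd.isDeg k1 (by decide +kernel)) (isDeg62 (hd.has k2) (by omega) (by norm_num))

end

end Cfsg.Agent.H487.AN
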