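import Cfsg.Agent.H487.AN.Base
import Cfsg.Agent.H424.DegTools

/-!
# S4766, C1: from degrees of `A_n` to degrees of `S_n` (helper487)

`transfer` : if no half degree of a self-conjugate partition of `n` passes the trivial tests for a group of order
dividing `N`, the degrees of the group are degrees of `S_n`.
-/

set_option autoImplicit false
set_option linter.unusedSectionVars false

namespace Cfsg.Agent.H487.AN

open Cfsg Cfsg.Agent.H704 Cfsg.Agent.H704.DSA Cfsg.Agent.H704.DS

universe u

/-- the test of the degrees of the self-conjugate partitions of `n ≤ 26` -/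
def tchk (N p : ℕ) : Bool :=
  Nat.blt N (1337220 * 1337220) && Nat.blt 1 N && (List.range 27).all fun n => Nat.blt n p || (scl n).all fun f =>
    (f % 2 != 0) || (N % (f / 2) != 0) || Nat.ble N (f / 2 * (f / 2))

theorem transfer {N p n : ℕ} {T : Type u} [Group T] [Finite T] (hN : Nat.card T ∣ N) (hpn : p ≤ n)
    (hc : tchk N p = true) (h : SubDegA n T) : SubDeg n T := by
  intro ψ hψ
  obtain ⟨e, h1, h2⟩ := h ψ hψ
  refine ⟨e, ?_, h2⟩
  rw [tchk, Bool.and_eq_true, Bool.and_eq_true, Nat.blt_eq, Nat.blt_eq, List.all_eq_true] at hc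
  obtain ⟨⟨hN1, hN2⟩, hc⟩ := hc
  have hle : Nat.card T ≤ N := Nat.le_of_dvd (by omega) hN
  have hlt : e * e < N := by
    by_cases he : e = 1
    · subst he; omega
    · exact (sq_lt_card hψ h2 he).trans_le hle
  have hdvd : e ∣ N := (dvd_card hψ h2).trans hN
  rcases h1.cases with h3 | ⟨l, h3, h4, h5⟩
  · exact h3
  · exfalso
    rcases Nat.lt_or_ge n 27 with h27 | h27
    · have h6 := hc n (List.mem_range.2 h27)
      have h7 := mem_scl (by omega) h3 h4 h5
      rw [Bool.or_eq_true, Nat.blt_eq] at h6
      rcases h6 with h6 | h6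
      · omega
      · have h8 := List.all_eq_true.1 h6 _ h7
        rw [Nat.mul_div_cancel_left _ (by norm_num), Bool.or_eq_true, Bool.or_eq_true] at h8
        simp only [bne_iff_ne, ne_eq] at h8
        rcases h8 with (h8 | h8) | h8
        · omega
        · exact h8 (Nat.mod_eq_zero_of_dvd hdvd)
        · have := Nat.le_of_ble_eq_true h8
          omega
    · have h6 := sc_ge h27 h3 h4 h5
      have h7 : 1337220 ≤ e := by omega
      have h8 := Nat.mul_le_mul h7 h7
      omega

/-- the primes dividing `|S|` are at most `n` -/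
theorem prime_le_n {n : ℕ} {A : Type u} [Group A] [Finite A] (S : Subgroup A) [S.Normal] (him : IM S)
    (hd : SubDegA n A) {p : ℕ} (hp : p.Prime) (h : p ∣ Nat.card S) : p ≤ n := by
  obtain ⟨ψ, e, h1, h2, h3⟩ := him p hp h
  obtain ⟨d, h4, h5, -⟩ := H424.DegTools.clifford_up S (H681.DegBasic.mem_charDegrees.2 ⟨ψ, h1, h2⟩)
  obtain ⟨χ, h6, h7⟩ := H681.DegBasic.mem_charDegrees.1 h4
  exact (Nat.Prime.dvd_factorial hp).1 ((h3.trans h5).trans (hd.nat h6 h7).dvd)

/-- the transfer for an almost simple group -/
theorem transfer_of {n : ℕ} {A : Type u} [Group A] [Finite A] (S : Subgroup A) [S.Normal] (him : IM S)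
    (hd : SubDegA n A) {N m p : ℕ} (hN : Nat.card S = N) (hi : S.index ∣ m) (hp : p.Prime) (hpN : N % p = 0)
    (hc : tchk (N * m) p = true) : SubDeg n A := by
  refine transfer (N := N * m) ?_ (prime_le_n S him hd hp ?_) hc hd
  · rw [← S.card_mul_index, hN]
    exact Nat.mul_dvd_mul_left N hi
  · rw [hN]; exact Nat.dvd_of_mod_eq_zero hpN

theorem t_m11 : tchk (7920 * 1) 11 = true := by decide +kernel
theorem t_m12 : tchk (95040 * 2) 11 = true := by decide +kernel
theorem t_m23 : tchk (10200960 * 1) 23 = true := by decide +kernel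
theorem t_m24 : tchk (244823040 * 1) 23 = true := by decide +kernel
theorem t_j1 : tchk (175560 * 1) 19 = true := by decide +kernel
theorem t_j3 : tchk (50232960 * 2) 19 = true := by decide +kernel
theorem t_co3 : tchk (495766656000 * 1) 23 = true := by decide +kernel
theorem t_he : tchk (4030387200 * 2) 17 = true := by decide +kernel
theorem t_ru : tchk (145926144000 * 1) 29 = true := by decide +kernel
theorem t_on : tchk (460815505920 * 2) 31 = true := by decide +kernel
theorem t_tits : tchk (17971200 * 2) 13 = true := by decide +kernel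

end Cfsg.Agent.H487.AN
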